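import Groth.Agent.Lib.DefAff3.Torsor
import Groth.Agent.Lib.HBDef3.Basic
import Groth.Agent.Lib.TrivDef.Basic
import Groth.Agent.Lib.FlatH4.LocCrit
import Mathlib.RingTheory.Flat.Stability
import Mathlib.RingTheory.TensorProduct.Basic

/-!
# Flat liftings of algebras along small surjections of Artinian rings and extensions

`A → C → k`, `J` the kernel of `A → C`, killed by the kernel `m` of `A → k`.  `B` is a flat `C`-algebra with
special fibre `B₀`.  Flat liftings of `B` to `A` are the extensions of `B` by `B₀ ⊗ J` in which `J` acts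
in the obvious way.
-/

set_option autoImplicit false
set_option backward.isDefEq.respectTransparency false

universe u

open TensorProduct

noncomputable section

namespace Groth.Agent.DefAff3

variable {k A C B B₀ : Type u} [Field k] [CommRing A] [CommRing C] [CommRing B] [CommRing B₀]
  [Algebra A C] [Algebra A k] [Algebra C k] [IsScalarTower A C k]
  [Algebra C B] [Algebra A B] [IsScalarTower A C B]
  [Algebra k B₀] [Algebra A B₀] [IsScalarTower A k B₀] [Algebra C B₀] [IsScalarTower C k B₀]
  [Algebra B B₀] [IsScalarTower A B B₀] [IsScalarTower C B B₀]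

variable (J : Ideal A) [Module k J] [IsScalarTower A k J]

omit [IsScalarTower A C k] in
theorem smul_eq_algebraMap_smul (a : A) (j : J) : algebraMap A k a • j = a • j :=
  IsScalarTower.algebraMap_smul k a j

omit [IsScalarTower A C k] in
theorem mul_eq_zero_of_mem_ker {a : A} (ha : algebraMap A k a = 0) (j : J) : a * (j : A) = 0 := by
  have := congrArg Subtype.val (smul_eq_algebraMap_smul (k := k) J a j)
  rw [ha, zero_smul] at this
  exact this.symm

instance smulCommClass_special : SMulCommClass k B B₀ :=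
  ⟨fun c b x => by rw [Algebra.smul_def, Algebra.smul_def, Algebra.smul_def, Algebra.smul_def, mul_left_comm]⟩

/-- `j ↦ 1 ⊗ j`. -/
def nu : J → B₀ ⊗[k] J := fun j => (1 : B₀) ⊗ₜ j

omit [IsScalarTower A B B₀] in
theorem special_smul_tmul (b : B) (x : B₀) (j : J) :
    b • (x ⊗ₜ[k] j) = (algebraMap B B₀ b * x) ⊗ₜ[k] j := by
  rw [TensorProduct.smul_tmul', Algebra.smul_def]

/-- The kernel of `E → B₀` for a lifting `E`. -/
theorem mem_of_special_eq_zero (hC : Function.Surjective (algebraMap A C))
    (hρk : RingHom.ker (algebraMap B B₀) = (RingHom.ker (algebraMap C k)).map (algebraMap C B))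
    {E : Type u} [CommRing E] [Algebra A E] (π : E →ₐ[A] B) (hπ : Function.Surjective π)
    (hπk : RingHom.ker π = J.map (algebraMap A E)) (hJm : J ≤ RingHom.ker (algebraMap A k))
    {e : E} (he : algebraMap B B₀ (π e) = 0) : e ∈ (RingHom.ker (algebraMap A k)).map (algebraMap A E) := by
  have hcomp : (π.toRingHom).comp (algebraMap A E) = (algebraMap C B).comp (algebraMap A C) := by
    ext a
    simp [← IsScalarTower.algebraMap_apply]
  have hker : (RingHom.ker (algebraMap A k)).map (algebraMap A C) = RingHom.ker (algebraMap C k) := by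
    refine le_antisymm (Ideal.map_le_iff_le_comap.2 fun a ha => ?_) fun c hc => ?_
    · rw [Ideal.mem_comap, RingHom.mem_ker, ← IsScalarTower.algebraMap_apply]
      exact ha
    · obtain ⟨a, rfl⟩ := hC c
      rw [RingHom.mem_ker, ← IsScalarTower.algebraMap_apply] at hc
      exact Ideal.mem_map_of_mem _ hc
  have h1 : π e ∈ ((RingHom.ker (algebraMap A k)).map (algebraMap A E)).map π.toRingHom := by
    rw [Ideal.map_map, hcomp, ← Ideal.map_map, hker, ← hρk]
    exact he
  obtain ⟨e', he', hee⟩ := (Ideal.mem_map_iff_of_surjective π.toRingHom hπ).1 h1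
  rw [← sub_add_cancel e e']
  refine add_mem (Ideal.map_mono hJm (hπk.le ?_)) he'
  rw [RingHom.mem_ker, map_sub, sub_eq_zero]
  exact hee.symm

/-- A flat lifting gives an extension. -/
theorem exists_ext_of_lift (hC : Function.Surjective (algebraMap A C))
    (hρ : Function.Surjective (algebraMap B B₀))
    (hρk : RingHom.ker (algebraMap B B₀) = (RingHom.ker (algebraMap C k)).map (algebraMap C B))
    (hJm : J ≤ RingHom.ker (algebraMap A k)) (hres : Function.Surjective (algebraMap A k))
    {E : Type u} [CommRing E] [Algebra A E] [Module.Flat A E] (π : E →ₐ[A] B) (hπ : Function.Surjective π)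
    (hπk : RingHom.ker π = J.map (algebraMap A E)) :
    ∃ X : Exal.Ext A B (B₀ ⊗[k] J), (∀ j : J, algebraMap A X.E j = X.incl (nu J j)) ∧
      ∃ e : X.E ≃ₐ[A] E, ∀ x, π (e x) = X.proj x := by
  let ρ : E →+* B₀ := (algebraMap B B₀).comp π.toRingHom
  have hρE : Function.Surjective ρ := hρ.comp hπ
  have hz : ∀ (e : E) (j : J), ρ e = 0 → algebraMap A E (j : A) * e = 0 := by
    intro e j he
    have h1 : algebraMap A E (j : A) * e ∈
        Ideal.span {algebraMap A E (j : A)} * (RingHom.ker (algebraMap A k)).map (algebraMap A E) :=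
      Ideal.mul_mem_mul (Ideal.mem_span_singleton_self _) (mem_of_special_eq_zero J hC hρk π hπ hπk hJm he)
    rw [← Set.image_singleton, ← Ideal.map_span, ← Ideal.map_mul] at h1
    suffices Ideal.span {(j : A)} * RingHom.ker (algebraMap A k) = ⊥ by
      rw [this, Ideal.map_bot] at h1
      exact h1
    refine le_bot_iff.1 (Ideal.mul_le.2 fun x hx y hy => ?_)
    obtain ⟨c, rfl⟩ := Ideal.mem_span_singleton'.1 hx
    rw [Submodule.mem_bot, mul_assoc, mul_comm (j : A) y, mul_eq_zero_of_mem_ker J (RingHom.mem_ker.1 hy), mul_zero]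
  let sec : B₀ → E := Function.surjInv hρE
  have hsec : ∀ (j : J) (e : E), algebraMap A E (j : A) * sec (ρ e) = algebraMap A E (j : A) * e := fun j e => by
    rw [← sub_eq_zero, ← mul_sub]
    exact hz _ j (by rw [map_sub, Function.surjInv_eq hρE, sub_self])
  let f : B₀ →+ J →+ E := AddMonoidHom.mk'
    (fun x => AddMonoidHom.mk' (fun j => algebraMap A E (j : A) * sec x)
      (fun i j => by rw [Submodule.coe_add, map_add, add_mul]))
    (fun x y => AddMonoidHom.ext fun j => by
      show algebraMap A E (j : A) * sec (x + y) = _ * sec x + _ * sec y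
      rw [← mul_add, ← hsec j (sec x + sec y), map_add, Function.surjInv_eq hρE, Function.surjInv_eq hρE])
  have hf : ∀ (c : k) (x : B₀) (j : J), f (c • x) j = f x (c • j) := by
    intro c x j
    obtain ⟨a, rfl⟩ := hres c
    show algebraMap A E (j : A) * sec (algebraMap A k a • x) = algebraMap A E ((algebraMap A k a • j : J) : A) * sec x
    rw [smul_eq_algebraMap_smul, Submodule.coe_smul, smul_eq_mul, map_mul, mul_assoc,
      mul_left_comm, ← hsec j (algebraMap A E a * sec x)]
    congr 2
    rw [map_mul, Function.surjInv_eq hρE, Algebra.smul_def, ← IsScalarTower.algebraMap_apply]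
    congr 1
    show algebraMap A B₀ a = algebraMap B B₀ (π (algebraMap A E a))
    rw [AlgHom.commutes, ← IsScalarTower.algebraMap_apply]
  let incl : B₀ ⊗[k] J →+ E := TensorProduct.liftAddHom f hf
  have hincl : ∀ (j : J) (e : E), incl (ρ e ⊗ₜ j) = algebraMap A E (j : A) * e := fun j e => hsec j e
  let g : J →+ E →+ B₀ ⊗[k] J := AddMonoidHom.mk'
    (fun j => AddMonoidHom.mk' (fun e => ρ e ⊗ₜ j) (fun e e' => by rw [map_add, TensorProduct.add_tmul]))
    (fun i j => AddMonoidHom.ext fun e => TensorProduct.tmul_add _ _ _)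
  let Φ : (J : Submodule A A) ⊗[A] E →+ B₀ ⊗[k] J := TensorProduct.liftAddHom g fun a j e => by
    show ρ e ⊗ₜ[k] (a • j) = ρ (a • e) ⊗ₜ[k] j
    rw [← smul_eq_algebraMap_smul (k := k) J a j, TensorProduct.tmul_smul, TensorProduct.smul_tmul', Algebra.smul_def,
      Algebra.smul_def a e, map_mul]
    congr 2
    show _ = algebraMap B B₀ (π (algebraMap A E a))
    rw [AlgHom.commutes, ← IsScalarTower.algebraMap_apply, ← IsScalarTower.algebraMap_apply]
  have hΦ : ∀ t, incl (Φ t) = TensorProduct.lid A E (J.subtype.rTensor E t) := by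
    intro t
    induction t using TensorProduct.induction_on with
    | zero => simp
    | tmul j e =>
      show incl (ρ e ⊗ₜ j) = _
      rw [hincl, LinearMap.rTensor_tmul, TensorProduct.lid_tmul, Submodule.subtype_apply, Algebra.smul_def]
    | add x y hx hy => simp only [map_add, hx, hy]
  have hΦs : Function.Surjective Φ := by
    intro z
    induction z using TensorProduct.induction_on with
    | zero => exact ⟨0, map_zero Φ⟩
    | tmul x j => exact ⟨j ⊗ₜ sec x, by show ρ (sec x) ⊗ₜ j = _; rw [Function.surjInv_eq hρE]⟩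
    | add x y hx hy =>
      obtain ⟨a, rfl⟩ := hx; obtain ⟨b, rfl⟩ := hy
      exact ⟨a + b, map_add Φ a b⟩
  have hinj : Function.Injective incl := by
    intro x y hxy
    obtain ⟨a, rfl⟩ := hΦs x; obtain ⟨b, rfl⟩ := hΦs y
    rw [hΦ, hΦ] at hxy
    rw [Module.Flat.rTensor_preserves_injective_linearMap (M := E) J.subtype J.injective_subtype
      ((TensorProduct.lid A E).injective hxy)]
  have hexact : ∀ x : E, π x = 0 ↔ x ∈ Set.range incl := by
    intro x
    refine ⟨fun hx => ?_, ?_⟩
    · have h := hπk.le (RingHom.mem_ker.2 hx)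
      change x ∈ incl.range
      refine Submodule.span_induction ?_ (zero_mem _) (fun a b _ _ ha hb => add_mem ha hb) ?_ h
      · rintro _ ⟨a, ha, rfl⟩
        exact ⟨ρ 1 ⊗ₜ ⟨a, ha⟩, by rw [hincl, mul_one]⟩
      · rintro c a _ ⟨z, rfl⟩
        rename_i hmem
        clear hx hmem
        induction z using TensorProduct.induction_on with
        | zero => rw [map_zero, smul_zero]; exact zero_mem _
        | tmul x₀ j => exact ⟨ρ (c * sec x₀) ⊗ₜ j, by
            rw [hincl, smul_eq_mul, mul_left_comm]
            exact congrArg (c * ·) (by rw [← hincl, Function.surjInv_eq hρE])⟩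
        | add u v hu hv => rw [map_add, smul_add]; exact add_mem hu hv
    · rintro ⟨z, rfl⟩
      obtain ⟨t, rfl⟩ := hΦs z
      rw [hΦ, ← RingHom.mem_ker, hπk]
      induction t using TensorProduct.induction_on with
      | zero => simp
      | tmul j e =>
        rw [LinearMap.rTensor_tmul, TensorProduct.lid_tmul, Submodule.subtype_apply, Algebra.smul_def]
        exact Ideal.mul_mem_right _ _ (Ideal.mem_map_of_mem _ j.2)
      | add x y hx hy => simp only [map_add]; exact add_mem hx hy
  have hmul : ∀ (x : E) (z : B₀ ⊗[k] J), x * incl z = incl (π x • z) := by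
    intro x z
    induction z using TensorProduct.induction_on with
    | zero => simp
    | tmul x₀ j =>
      rw [special_smul_tmul, ← Function.surjInv_eq hρE x₀, show algebraMap B B₀ (π x) * ρ (sec x₀) = ρ (x * sec x₀) from
        (map_mul ρ _ _).symm, hincl, hincl, mul_left_comm]
    | add u v hu hv => simp only [map_add, mul_add, smul_add, hu, hv]
  exact ⟨{ E := E, proj := π, incl := incl, isExtension := ⟨hπ, hinj, hexact, hmul⟩ },
    fun j => by
      show algebraMap A E (j : A) = incl (1 ⊗ₜ j)
      rw [← map_one ρ, hincl, mul_one], AlgEquiv.refl, fun _ => rfl⟩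

omit [IsScalarTower A C k] [IsScalarTower C k B₀] in
/-- In such an extension the kernel is `J E`. -/
theorem ker_proj_eq (X : Exal.Ext A B (B₀ ⊗[k] J)) (hX : ∀ j : J, algebraMap A X.E j = X.incl (nu J j))
    (hρ : Function.Surjective (algebraMap B B₀)) : RingHom.ker X.proj = J.map (algebraMap A X.E) := by
  refine le_antisymm (fun x hx => ?_) (Ideal.map_le_iff_le_comap.2 fun j hj => ?_)
  · obtain ⟨z, rfl⟩ := (X.isExtension.exact x).1 hx
    clear hx
    induction z using TensorProduct.induction_on with
    | zero => rw [map_zero]; exact zero_mem _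
    | add u v hu hv => rw [map_add]; exact add_mem hu hv
    | tmul x₀ j =>
      obtain ⟨b, rfl⟩ := hρ x₀
      obtain ⟨e, rfl⟩ := X.isExtension.proj_surjective b
      have : X.incl (algebraMap B B₀ (X.proj e) ⊗ₜ j) = e * algebraMap A X.E (j : A) := by
        rw [hX, X.isExtension.mul_incl, nu, special_smul_tmul, mul_one]
      rw [this]
      exact Ideal.mul_mem_left _ _ (Ideal.mem_map_of_mem _ j.2)
  · rw [Ideal.mem_comap, RingHom.mem_ker, AlgHom.commutes]
    have h := (X.isExtension.exact (algebraMap A X.E j)).2 ⟨_, (hX ⟨j, hj⟩).symm⟩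
    rwa [AlgHom.commutes] at h

/-- Such an extension is flat. -/
theorem flat_of_ext [Module.Flat C B] (hC : Function.Surjective (algebraMap A C))
    (hJ : RingHom.ker (algebraMap A C) = J)
    (hρ : Function.Surjective (algebraMap B B₀))
    (hρk : RingHom.ker (algebraMap B B₀) = (RingHom.ker (algebraMap C k)).map (algebraMap C B))
    (hJm : J ≤ RingHom.ker (algebraMap A k)) (hres : Function.Surjective (algebraMap A k)) (hnil : IsNilpotent J)
    (X : Exal.Ext A B (B₀ ⊗[k] J)) (hX : ∀ j : J, algebraMap A X.E j = X.incl (nu J j)) :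
    Module.Flat A X.E := by
  have hk := ker_proj_eq J X hX hρ
  let ρ : X.E →+* B₀ := (algebraMap B B₀).comp X.proj.toRingHom
  have hρE : Function.Surjective ρ := hρ.comp X.isExtension.proj_surjective
  let sec : B₀ → X.E := Function.surjInv hρE
  have hz : ∀ (e : X.E) (j : J), ρ e = 0 → (j ⊗ₜ[A] e : (J : Submodule A A) ⊗[A] X.E) = 0 := by
    intro e j he
    have hem := mem_of_special_eq_zero J hC hρk X.proj X.isExtension.proj_surjective hk hJm he
    have hem' : e ∈ RingHom.ker (algebraMap A k) • (⊤ : Submodule A X.E) := by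
      rw [Ideal.smul_top_eq_map]; exact hem
    refine Submodule.smul_induction_on hem' (fun a ha y _ => ?_) fun x y hx hy => by rw [TensorProduct.tmul_add, hx, hy, add_zero]
    rw [TensorProduct.tmul_smul, TensorProduct.smul_tmul',
      show a • j = 0 from Subtype.ext (mul_eq_zero_of_mem_ker J (RingHom.mem_ker.1 ha) j), TensorProduct.zero_tmul]
  have hsec : ∀ (j : J) (e : X.E), (j ⊗ₜ[A] sec (ρ e) : (J : Submodule A A) ⊗[A] X.E) = j ⊗ₜ[A] e := fun j e => by
    rw [← sub_eq_zero, ← TensorProduct.tmul_sub]
    exact hz _ j (by rw [map_sub, Function.surjInv_eq hρE, sub_self])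
  have hmult : ∀ (j : J) (e : X.E), TensorProduct.lid A X.E (J.subtype.rTensor X.E (j ⊗ₜ e)) = X.incl (ρ e ⊗ₜ j) := by
    intro j e
    rw [LinearMap.rTensor_tmul, TensorProduct.lid_tmul, Submodule.subtype_apply, Algebra.smul_def, hX, mul_comm,
      X.isExtension.mul_incl, nu, special_smul_tmul, mul_one]
    rfl
  have h1 : Function.Injective (LinearMap.lTensor X.E J.subtype) := by
    rw [LinearMap.lTensor_inj_iff_rTensor_inj, injective_iff_map_eq_zero]
    intro t ht
    -- a left inverse of `incl ∘ (e ↦ ρ e)`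
    suffices ∀ t, ∃ w : B₀ ⊗[k] J, X.incl w = TensorProduct.lid A X.E (J.subtype.rTensor X.E t) ∧
        ∀ g : B₀ ⊗[k] J →+ (J : Submodule A A) ⊗[A] X.E, (∀ j e, g (ρ e ⊗ₜ j) = j ⊗ₜ e) → g w = t by
      obtain ⟨w, hw, hg⟩ := this t
      rw [ht, map_zero, ← map_zero X.incl] at hw
      have hw0 : w = 0 := X.isExtension.incl_injective hw
      let f : B₀ →+ J →+ (J : Submodule A A) ⊗[A] X.E := AddMonoidHom.mk'
        (fun x => AddMonoidHom.mk' (fun j => j ⊗ₜ sec x) (fun i j => TensorProduct.add_tmul _ _ _))
        (fun x y => AddMonoidHom.ext fun j => by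
          show j ⊗ₜ[A] sec (x + y) = j ⊗ₜ sec x + j ⊗ₜ sec y
          rw [← TensorProduct.tmul_add, ← hsec j (sec x + sec y), map_add, Function.surjInv_eq hρE, Function.surjInv_eq hρE])
      have hg' := hg (TensorProduct.liftAddHom f fun c x j => by
        obtain ⟨a, rfl⟩ := hres c
        show j ⊗ₜ[A] sec (algebraMap A k a • x) = (algebraMap A k a • j) ⊗ₜ[A] sec x
        rw [smul_eq_algebraMap_smul, TensorProduct.smul_tmul, ← hsec j (a • sec x)]
        congr 2
        rw [Algebra.smul_def, Algebra.smul_def a (sec x), map_mul, Function.surjInv_eq hρE, ← IsScalarTower.algebraMap_apply]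
        congr 1
        show algebraMap A B₀ a = algebraMap B B₀ (X.proj (algebraMap A X.E a))
        rw [AlgHom.commutes, ← IsScalarTower.algebraMap_apply]) (fun j e => hsec j e)
      rw [← hg', hw0, map_zero]
    intro t
    induction t using TensorProduct.induction_on with
    | zero => exact ⟨0, by simp, fun g _ => map_zero g⟩
    | tmul j e => exact ⟨ρ e ⊗ₜ j, (hmult j e).symm, fun g hg => hg j e⟩
    | add x y hx hy =>
      obtain ⟨u, hu, hu'⟩ := hx; obtain ⟨v, hv, hv'⟩ := hy
      exact ⟨u + v, by simp only [map_add, hu, hv], fun g hg => by rw [map_add, hu' g hg, hv' g hg]⟩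
  -- `E / J E ≅ B` is flat over `A / J ≅ C`
  refine FlatH4.flat_of_isNilpotent J hnil h1 ?_
  letI : Algebra (A ⧸ J) C := (Ideal.Quotient.lift J (algebraMap A C) fun a ha => hJ.ge ha).toAlgebra
  letI : Algebra (A ⧸ J) B := ((algebraMap C B).comp (algebraMap (A ⧸ J) C)).toAlgebra
  haveI : IsScalarTower (A ⧸ J) C B := IsScalarTower.of_algebraMap_eq' rfl
  haveI : Module.Flat (A ⧸ J) C := Module.Flat.of_linearEquiv
    (LinearEquiv.ofBijective (Algebra.linearMap (A ⧸ J) C) ⟨by
      show Function.Injective (Ideal.Quotient.lift J (algebraMap A C) fun a ha => hJ.ge ha)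
      exact RingHom.lift_injective_of_ker_le_ideal _ _ hJ.le,
      fun c => by obtain ⟨a, rfl⟩ := hC c; exact ⟨Ideal.Quotient.mk J a, rfl⟩⟩).symm
  haveI : Module.Flat (A ⧸ J) B := Module.Flat.trans (A ⧸ J) C B
  haveI : IsScalarTower A (A ⧸ J) B := IsScalarTower.of_algebraMap_eq fun a => by
    show _ = algebraMap C B (algebraMap A C a)
    rw [← IsScalarTower.algebraMap_apply]
  have hker : LinearMap.ker X.proj.toLinearMap = J • (⊤ : Submodule A X.E) := by
    rw [Ideal.smul_top_eq_map, ← hk]
    rfl
  let e0 : (A ⧸ J) ⊗[A] X.E ≃ₗ[A] B :=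
    (TensorProduct.quotTensorEquivQuotSMul X.E J).trans ((Submodule.quotEquivOfEq _ _ hker.symm).trans
      (X.proj.toLinearMap.quotKerEquivOfSurjective X.isExtension.proj_surjective))
  exact Module.Flat.of_linearEquiv (e0.extendScalarsOfSurjective Ideal.Quotient.mk_surjective)

/-- Extensions with `J` acting through `nu` form a torsor under `T¹`. -/
theorem nonempty_cls_equiv [Module.Flat C B] (hC : Function.Surjective (algebraMap A C))
    (hJ : RingHom.ker (algebraMap A C) = J) (hres : Function.Surjective (algebraMap A k))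
    (hm : IsNilpotent (RingHom.ker (algebraMap A k)))
    (hρ : Function.Surjective (algebraMap B B₀))
    (hρk : RingHom.ker (algebraMap B B₀) = (RingHom.ker (algebraMap C k)).map (algebraMap C B))
    (X₀ : Exal.Ext A B (B₀ ⊗[k] J)) (hX₀ : ∀ j : J, algebraMap A X₀.E j = X₀.incl (nu J j)) :
    Nonempty (Cls A B (B₀ ⊗[k] J) J (nu J) ≃ CotT.T1 (CotT.canon k B₀) (B₀ ⊗[k] J)) := by
  classical
  let val : B₀ → B := Function.surjInv hρ
  have hsec : ∀ b, algebraMap B B₀ (val b) = b := Function.surjInv_eq hρ
  have hJm : J ≤ RingHom.ker (algebraMap A k) := by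
    intro a ha
    rw [RingHom.mem_ker, IsScalarTower.algebraMap_apply A C k, RingHom.mem_ker.1 (hJ.ge ha), map_zero]
  have hJB : J.map (algebraMap A B) = ⊥ := le_bot_iff.1 (Ideal.map_le_iff_le_comap.2 fun a ha => by
    rw [Ideal.mem_comap, Submodule.mem_bot, IsScalarTower.algebraMap_apply A C B, RingHom.mem_ker.1 (hJ.ge ha),
      map_zero])
  have hkC : (RingHom.ker (algebraMap A k)).map (algebraMap A C) = RingHom.ker (algebraMap C k) := by
    refine le_antisymm (Ideal.map_le_iff_le_comap.2 fun a ha => ?_) fun c hc => ?_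
    · rw [Ideal.mem_comap, RingHom.mem_ker, ← IsScalarTower.algebraMap_apply]
      exact ha
    · obtain ⟨a, rfl⟩ := hC c
      rw [RingHom.mem_ker, ← IsScalarTower.algebraMap_apply] at hc
      exact Ideal.mem_map_of_mem _ hc
  have hker : RingHom.ker (algebraMap B B₀) = (RingHom.ker (algebraMap A k)).map (algebraMap A B) := by
    rw [hρk, ← hkC, Ideal.map_map, ← IsScalarTower.algebraMap_eq]
  have hcomm : ∀ y : MvPolynomial B₀ A, algebraMap B B₀ (MvPolynomial.aeval val y) =
      MvPolynomial.aeval (id : B₀ → B₀) (MvPolynomial.map (algebraMap A k) y) := by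
    intro y
    induction y using MvPolynomial.induction_on with
    | C a => simp [← IsScalarTower.algebraMap_apply]
    | add p q hp hq => simp only [map_add, hp, hq]
    | mul_X p i hp => simp only [map_mul, hp, MvPolynomial.map_X, MvPolynomial.aeval_X, hsec, id]
  have hval : Function.Surjective (MvPolynomial.aeval (R := A) val) := by
    suffices LinearMap.range (MvPolynomial.aeval (R := A) val).toLinearMap = ⊤ from LinearMap.range_eq_top.1 this
    refine TrivDef.eq_top_of_sup_smul_top (RingHom.ker (algebraMap A k)) hm _ (eq_top_iff.2 fun b _ => ?_)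
    rw [← add_sub_cancel (val (algebraMap B B₀ b)) b]
    refine Submodule.add_mem_sup ⟨MvPolynomial.X _, MvPolynomial.aeval_X _ _⟩ ?_
    rw [Ideal.smul_top_eq_map, Submodule.restrictScalars_mem, ← hker, RingHom.mem_ker, map_sub, hsec, sub_self]
  refine classes_equiv J (nu J) hres hJm hJB val hval hsec (fun y₀ hy₀ => ?_) (fun y hy hy0 => ?_) X₀ hX₀
  · obtain ⟨y, rfl⟩ := MvPolynomial.map_surjective (algebraMap A k) hres y₀
    have h1 : MvPolynomial.aeval val y ∈
        ((RingHom.ker (algebraMap A k)).map (algebraMap A (MvPolynomial B₀ A))).map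
          (MvPolynomial.aeval (R := A) val).toRingHom := by
      rw [Ideal.map_map, show (MvPolynomial.aeval (R := A) val).toRingHom.comp (algebraMap A _) = algebraMap A B from
        (MvPolynomial.aeval (R := A) val).comp_algebraMap, ← hker, RingHom.mem_ker, hcomm]
      exact hy₀
    obtain ⟨z, hz, hzy⟩ := (Ideal.mem_map_iff_of_surjective _ hval).1 h1
    refine ⟨y - z, by rw [map_sub, sub_eq_zero]; exact hzy.symm, ?_⟩
    rw [map_sub, sub_eq_self]
    have : (RingHom.ker (algebraMap A k)).map (algebraMap A (MvPolynomial B₀ A)) ≤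
        RingHom.ker (MvPolynomial.map (σ := B₀) (algebraMap A k)) := Ideal.map_le_iff_le_comap.2 fun a ha => by
      simp [RingHom.mem_ker.1 ha]
    exact this hz
  · -- `K ∩ m R = m K` over `C`, as `R / K ≅ B` is flat
    let R := MvPolynomial B₀ C
    let pC : MvPolynomial B₀ A →+* R := MvPolynomial.map (algebraMap A C)
    let πC : R →ₐ[C] B := MvPolynomial.aeval val
    have hπC : ∀ z, πC (pC z) = MvPolynomial.aeval val z := fun z => by
      show MvPolynomial.aeval val (MvPolynomial.map (algebraMap A C) z) = _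
      rw [MvPolynomial.aeval_map_algebraMap]
    have hπCs : Function.Surjective πC := fun b => by
      obtain ⟨z, rfl⟩ := hval b
      exact ⟨pC z, hπC z⟩
    let K : Submodule C R := LinearMap.ker πC.toLinearMap
    haveI : Module.Flat C (R ⧸ K) :=
      Module.Flat.of_linearEquiv (πC.toLinearMap.quotKerEquivOfSurjective hπCs)
    have hym : pC y ∈ RingHom.ker (algebraMap C k) • (⊤ : Submodule C R) := by
      rw [Ideal.smul_top_eq_map, Submodule.restrictScalars_mem, MvPolynomial.algebraMap_eq, MvPolynomial.mem_map_C_iff]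
      intro d
      rw [RingHom.mem_ker, MvPolynomial.coeff_map, ← IsScalarTower.algebraMap_apply, ← MvPolynomial.coeff_map, hy0,
        MvPolynomial.coeff_zero]
    have h2 := HBDef3.mem_smul_of_mem_of_flat_quot (RingHom.ker (algebraMap C k)) K
      (x := pC y) (LinearMap.mem_ker.2 ((hπC y).trans hy)) hym
    obtain ⟨z, hz, hzy⟩ : ∃ z, z ∈ (RingHom.ker (algebraMap A k)).map (algebraMap A (MvPolynomial B₀ A)) *
        RingHom.ker (MvPolynomial.aeval (R := A) val).toRingHom ∧ pC z = pC y := by
      refine Submodule.smul_induction_on h2 (fun c hc n hn => ?_) ?_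
      · obtain ⟨a, rfl⟩ := hC c
        obtain ⟨w, rfl⟩ := MvPolynomial.map_surjective (algebraMap A C) hC n
        refine ⟨algebraMap A _ a * w, Ideal.mul_mem_mul (Ideal.mem_map_of_mem _ ?_) ?_, ?_⟩
        · rw [RingHom.mem_ker, IsScalarTower.algebraMap_apply A C k]
          exact hc
        · rw [RingHom.mem_ker]
          exact (hπC w).symm.trans hn
        · rw [map_mul, Algebra.smul_def, MvPolynomial.algebraMap_eq, MvPolynomial.algebraMap_eq]
          show MvPolynomial.map _ (MvPolynomial.C a) * _ = _
          rw [MvPolynomial.map_C]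
      · rintro _ _ ⟨a, ha, rfl⟩ ⟨b, hb, rfl⟩
        exact ⟨a + b, add_mem ha hb, map_add pC a b⟩
    rw [← add_sub_cancel z y]
    refine Submodule.add_mem_sup hz ?_
    rw [MvPolynomial.algebraMap_eq, MvPolynomial.mem_map_C_iff]
    intro d
    rw [← hJ, RingHom.mem_ker, ← MvPolynomial.coeff_map, map_sub]
    show MvPolynomial.coeff d (pC y - pC z) = 0
    rw [hzy, sub_self, MvPolynomial.coeff_zero]

end Groth.Agent.DefAff3
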