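import Groth.Agent.Lib.DefAff3.Alg
import Mathlib.RingTheory.Flat.EquationalCriterion

/-!
# `T² = 0` gives liftings along small surjections
-/

set_option autoImplicit false
set_option backward.isDefEq.respectTransparency false

universe u

open TensorProduct

noncomputable section

namespace Groth.Agent.DefAff3

open _root_.CotT CotT3

variable {k A C B B₀ : Type u} [Field k] [CommRing A] [CommRing C] [CommRing B] [CommRing B₀]
  [Algebra A C] [Algebra A k] [Algebra C k] [IsScalarTower A C k]
  [Algebra C B] [Algebra A B] [IsScalarTower A C B]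
  [Algebra k B₀] [Algebra A B₀] [IsScalarTower A k B₀] [Algebra C B₀] [IsScalarTower C k B₀]
  [Algebra B B₀] [IsScalarTower A B B₀] [IsScalarTower C B B₀]

variable (J : Ideal A) [Module k J] [IsScalarTower A k J]
variable {ι σ : Type u} (val : ι → B)

/-- The special value of a polynomial. -/
abbrev spec0 (y : MvPolynomial ι A) : B₀ := algebraMap B B₀ (MvPolynomial.aeval val y)

/-- The canonical map on `J R'`. -/
theorem exists_nut (hres : Function.Surjective (algebraMap A k)) :
    ∃ N : ↥(J.map (algebraMap A (MvPolynomial ι A))) →+ B₀ ⊗[k] J,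
      (∀ (r : MvPolynomial ι A) (j : J) (h), N ⟨algebraMap A _ (j : A) * r, h⟩ = spec0 val r ⊗ₜ j) ∧
      (∀ (c : MvPolynomial ι A) y, N (c • y) = MvPolynomial.aeval val c • N y) := by
  classical
  let R' := MvPolynomial ι A
  let Θ : R' ⊗[A] J →ₗ[A] R' := (TensorProduct.rid A R').toLinearMap ∘ₗ J.subtype.lTensor R'
  have hΘ : ∀ (r : R') (j : J), Θ (r ⊗ₜ j) = algebraMap A R' (j : A) * r := fun r j => by
    simp [Θ, Algebra.smul_def]
  have hΘi : Function.Injective Θ :=
    (TensorProduct.rid A R').injective.comp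
      (Module.Flat.lTensor_preserves_injective_linearMap J.subtype J.injective_subtype)
  have hΘm : ∀ z, Θ z ∈ J.map (algebraMap A R') := by
    intro z
    induction z using TensorProduct.induction_on with
    | zero => rw [map_zero]; exact zero_mem _
    | tmul r j => rw [hΘ]; exact Ideal.mul_mem_right _ _ (Ideal.mem_map_of_mem _ j.2)
    | add a b ha hb => rw [map_add]; exact add_mem ha hb
  have hΘs : ∀ y : J.map (algebraMap A R'), ∃ z, Θ z = y.1 := by
    rintro ⟨y, hy⟩
    have hy' : y ∈ J • (⊤ : Submodule A R') := by rw [Ideal.smul_top_eq_map]; exact hy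
    suffices H : ∀ x ∈ J • (⊤ : Submodule A R'), ∃ z, Θ z = x from H y hy'
    intro x hx
    refine Submodule.smul_induction_on hx (fun a ha r _ => ⟨r ⊗ₜ ⟨a, ha⟩, ?_⟩) ?_
    · rw [hΘ, Algebra.smul_def]
    · rintro a b ⟨u, hu⟩ ⟨v, hv⟩
      exact ⟨u + v, by rw [map_add, hu, hv]⟩
  let g : R' →+ J →+ B₀ ⊗[k] J := AddMonoidHom.mk'
    (fun r => AddMonoidHom.mk' (fun j => spec0 val r ⊗ₜ j) (fun i j => TensorProduct.tmul_add _ _ _))
    (fun r r' => AddMonoidHom.ext fun j => by
      show spec0 val (r + r') ⊗ₜ[k] j = _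
      rw [spec0, map_add, map_add, TensorProduct.add_tmul]
      rfl)
  let Φ : R' ⊗[A] J →+ B₀ ⊗[k] J := TensorProduct.liftAddHom g fun a r j => by
    show spec0 val (a • r) ⊗ₜ[k] j = spec0 val r ⊗ₜ[k] (a • j)
    rw [← smul_eq_algebraMap_smul (k := k) J a j, TensorProduct.tmul_smul, TensorProduct.smul_tmul']
    congr 1
    show algebraMap B B₀ (MvPolynomial.aeval val (a • r)) = algebraMap A k a • spec0 val r
    rw [map_smul, Algebra.smul_def, Algebra.smul_def, map_mul, ← IsScalarTower.algebraMap_apply A B B₀,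
      ← IsScalarTower.algebraMap_apply A k B₀]
  choose z hz using hΘs
  let N : ↥(J.map (algebraMap A R')) →+ B₀ ⊗[k] J := AddMonoidHom.mk' (fun y => Φ (z y)) fun y y' => by
    rw [show z (y + y') = z y + z y' from hΘi (by rw [map_add, hz, hz, hz]; rfl), map_add]
  have hN : ∀ (w : R' ⊗[A] J) h, N ⟨Θ w, h⟩ = Φ w := fun w h => by
    show Φ (z _) = _
    rw [show z ⟨Θ w, h⟩ = w from hΘi (hz _)]
  refine ⟨N, fun r j h => ?_, fun c y => ?_⟩
  · have hmem := hΘm (r ⊗ₜ j)
    have := hN (r ⊗ₜ j) hmem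
    rw [show (⟨algebraMap A R' (j : A) * r, h⟩ : ↥(J.map (algebraMap A R'))) = ⟨Θ (r ⊗ₜ j), hmem⟩ from
      Subtype.ext (hΘ r j).symm, this]
    rfl
  · suffices ∀ w : R' ⊗[A] J, ∀ h h', N ⟨c * Θ w, h⟩ = MvPolynomial.aeval val c • N ⟨Θ w, h'⟩ by
      have e1 : c • y = ⟨c * Θ (z y), Ideal.mul_mem_left _ _ (hΘm _)⟩ :=
        Subtype.ext (congrArg (c * ·) (hz y).symm)
      have e2 : y = ⟨Θ (z y), hΘm _⟩ := Subtype.ext (hz y).symm
      exact (congrArg N e1).trans ((this (z y) _ (hΘm _)).trans (congrArg (fun t => _ • N t) e2.symm))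
    intro w
    induction w using TensorProduct.induction_on with
    | zero => intro h h'; simp only [map_zero, mul_zero]; rw [show (⟨0, h'⟩ : ↥(J.map (algebraMap A R'))) = 0 from rfl,
        map_zero, smul_zero]
    | tmul r j =>
      intro h h'
      have e1 : (⟨c * Θ (r ⊗ₜ j), h⟩ : ↥(J.map (algebraMap A R'))) = ⟨Θ ((c * r) ⊗ₜ j), hΘm _⟩ :=
        Subtype.ext (by show c * Θ (r ⊗ₜ j) = Θ ((c * r) ⊗ₜ j); rw [hΘ, hΘ, mul_left_comm])
      rw [e1, hN, hN]
      show spec0 val (c * r) ⊗ₜ[k] j = MvPolynomial.aeval val c • (spec0 val r ⊗ₜ[k] j)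
      rw [special_smul_tmul, spec0, map_mul, map_mul]
    | add u v hu hv =>
      intro h h'
      have hu' := hu (Ideal.mul_mem_left _ _ (hΘm u)) (hΘm u)
      have hv' := hv (Ideal.mul_mem_left _ _ (hΘm v)) (hΘm v)
      have e1 : (⟨c * Θ (u + v), h⟩ : ↥(J.map (algebraMap A R'))) =
          ⟨c * Θ u, Ideal.mul_mem_left _ _ (hΘm u)⟩ + ⟨c * Θ v, Ideal.mul_mem_left _ _ (hΘm v)⟩ :=
        Subtype.ext (by show c * Θ (u + v) = c * Θ u + c * Θ v; rw [map_add, mul_add])
      have e2 : (⟨Θ (u + v), h'⟩ : ↥(J.map (algebraMap A R'))) = ⟨Θ u, hΘm u⟩ + ⟨Θ v, hΘm v⟩ :=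
        Subtype.ext (map_add Θ u v)
      rw [e1, e2, map_add, map_add, smul_add, hu', hv']

/-- Elements of `m K' ∩ J R'` come from `J ⊗ K'`. -/
theorem rel_key [Module.Flat C B] (hC : Function.Surjective (algebraMap A C))
    (hJ : RingHom.ker (algebraMap A C) = J) (hval : Function.Surjective (MvPolynomial.aeval (R := A) val))
    {s : Type u} [Fintype s] (a : s → A) (ha : ∀ i, algebraMap A k (a i) = 0) (y : s → MvPolynomial ι A)
    (hy : ∀ i, MvPolynomial.aeval val (y i) = 0)
    (hsum : ∑ i, algebraMap A _ (a i) * y i ∈ J.map (algebraMap A (MvPolynomial ι A))) :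
    ∃ (n : ℕ) (b : Fin n → J) (κ : Fin n → MvPolynomial ι A), (∀ j, MvPolynomial.aeval val (κ j) = 0) ∧
      ∑ i, algebraMap A _ (a i) * y i = ∑ j, algebraMap A _ ((b j : A)) * κ j := by
  classical
  let R := MvPolynomial ι C
  let pC : MvPolynomial ι A →+* R := MvPolynomial.map (algebraMap A C)
  let πC : R →ₐ[C] B := MvPolynomial.aeval val
  have hπC : ∀ z, πC (pC z) = MvPolynomial.aeval val z := fun z => by
    show MvPolynomial.aeval val (MvPolynomial.map (algebraMap A C) z) = _
    rw [MvPolynomial.aeval_map_algebraMap]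
  have hπCs : Function.Surjective πC := fun b => by
    obtain ⟨z, rfl⟩ := hval b
    exact ⟨pC z, hπC z⟩
  have hmapJ : ∀ z, z ∈ J.map (algebraMap A (MvPolynomial ι A)) ↔ pC z = 0 := fun z => by
    rw [MvPolynomial.algebraMap_eq, MvPolynomial.mem_map_C_iff, MvPolynomial.ext_iff]
    refine forall_congr' fun d => ?_
    rw [MvPolynomial.coeff_zero, MvPolynomial.coeff_map, ← hJ, RingHom.mem_ker]
  have hpa : ∀ c : A, pC (algebraMap A _ c) = algebraMap C R (algebraMap A C c) := fun c => by
    show MvPolynomial.map _ (MvPolynomial.C c) = _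
    rw [MvPolynomial.map_C]; rfl
  let K : Submodule C R := LinearMap.ker πC.toLinearMap
  haveI : Module.Flat C K := HBDef3.flat_ker (f := πC.toLinearMap) hπCs
  let x : s → K := fun i => ⟨pC (y i), LinearMap.mem_ker.2 ((hπC _).trans (hy i))⟩
  have hx : ∑ i, algebraMap A C (a i) • x i = 0 := Subtype.ext (by
    rw [Submodule.coe_sum, Submodule.coe_zero, ← (hmapJ _).1 hsum, map_sum]
    exact Finset.sum_congr rfl fun i _ => by rw [Submodule.coe_smul, Algebra.smul_def, map_mul, hpa])
  obtain ⟨n, α, w, hw, hα⟩ := Module.Flat.isTrivialRelation_of_sum_smul_eq_zero hx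
  choose α' hα' using fun i j => hC (α i j)
  choose κ hκ using fun j => MvPolynomial.map_surjective (σ := ι) (algebraMap A C) hC (w j).1
  refine ⟨n, fun j => ⟨∑ i, a i * α' i j, ?_⟩, κ, fun j => ?_, ?_⟩
  · rw [← hJ, RingHom.mem_ker, map_sum, ← hα j]
    exact Finset.sum_congr rfl fun i _ => by rw [map_mul, hα']
  · rw [← hπC]
    show πC (MvPolynomial.map _ (κ j)) = 0
    rw [hκ]
    exact LinearMap.mem_ker.1 (w j).2
  · have hd : ∀ i, algebraMap A _ (a i) * y i = algebraMap A _ (a i) * ∑ j, algebraMap A _ (α' i j) * κ j := by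
      intro i
      rw [← sub_eq_zero, ← mul_sub]
      have hmem : y i - ∑ j, algebraMap A _ (α' i j) * κ j ∈ J.map (algebraMap A (MvPolynomial ι A)) := by
        rw [hmapJ, map_sub, map_sum, sub_eq_zero]
        have := congrArg Subtype.val (hw i)
        rw [Submodule.coe_sum] at this
        refine this.trans (Finset.sum_congr rfl fun j _ => ?_)
        rw [Submodule.coe_smul, Algebra.smul_def, map_mul, hpa, hα']
        exact congrArg _ (hκ j).symm
      have h := Ideal.mul_mem_mul (Ideal.mem_span_singleton_self (algebraMap A (MvPolynomial ι A) (a i))) hmem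
      rw [← Set.image_singleton, ← Ideal.map_span, ← Ideal.map_mul,
        show Ideal.span {a i} * J = ⊥ from le_bot_iff.1 (Ideal.mul_le.2 fun u hu v hv => by
          obtain ⟨c, rfl⟩ := Ideal.mem_span_singleton'.1 hu
          rw [Submodule.mem_bot, mul_assoc, mul_eq_zero_of_mem_ker J (ha i) ⟨v, hv⟩, mul_zero]),
        Ideal.map_bot] at h
      exact h
    rw [Finset.sum_congr rfl fun i _ => hd i]
    simp only [Finset.mul_sum, map_sum, map_mul, Finset.sum_mul, mul_assoc]
    exact Finset.sum_comm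

set_option maxHeartbeats 1600000 in
/-- The obstruction to lifting `B`, functorial in the coefficient module. -/
theorem exists_obstruction [Module.Flat C B] (hC : Function.Surjective (algebraMap A C))
    (hJ : RingHom.ker (algebraMap A C) = J) (hres : Function.Surjective (algebraMap A k))
    (hm : IsNilpotent (RingHom.ker (algebraMap A k)))
    (hρ : Function.Surjective (algebraMap B B₀))
    (hρk : RingHom.ker (algebraMap B B₀) = (RingHom.ker (algebraMap C k)).map (algebraMap C B))
    (P : Algebra.Presentation k B₀ ι σ) :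
    ∃ ob : T2 P (B₀ ⊗[k] J), ∀ (L : Type u) [AddCommGroup L] [Module B L] [Module B₀ L] [IsScalarTower B B₀ L]
      (G : B₀ ⊗[k] J →ₗ[B₀] L), T2map P G ob = 0 →
        ∃ X : Exal.Ext A B L, ∀ j : J, algebraMap A X.E j = X.incl (G (nu J j)) := by
  classical
  obtain ⟨val, hval0⟩ : ∃ val : ι → B, ∀ i, algebraMap B B₀ (val i) = P.val i :=
    ⟨fun i => (hρ (P.val i)).choose, fun i => (hρ (P.val i)).choose_spec⟩
  let R' := MvPolynomial ι A
  let m := RingHom.ker (algebraMap A k)
  let M : Ideal R' := m.map (algebraMap A R')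
  let JR : Ideal R' := J.map (algebraMap A R')
  let q : R' →+* P.toExtension.Ring := MvPolynomial.map (algebraMap A k)
  have hqs : Function.Surjective q := MvPolynomial.map_surjective _ hres
  have hMq : ∀ y : R', y ∈ M ↔ q y = 0 := fun y => by
    show y ∈ m.map (algebraMap A R') ↔ MvPolynomial.map (algebraMap A k) y = 0
    rw [MvPolynomial.algebraMap_eq, MvPolynomial.mem_map_C_iff, MvPolynomial.ext_iff]
    refine forall_congr' fun d => ?_
    rw [MvPolynomial.coeff_zero, MvPolynomial.coeff_map, RingHom.mem_ker]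
  have hJm : J ≤ m := by
    intro a ha
    rw [RingHom.mem_ker, IsScalarTower.algebraMap_apply A C k, RingHom.mem_ker.1 (hJ.ge ha), map_zero]
  have hJB : ∀ j : J, algebraMap A B (j : A) = 0 := fun j => by
    rw [IsScalarTower.algebraMap_apply A C B, RingHom.mem_ker.1 (hJ.ge j.2), map_zero]
  have hkC : m.map (algebraMap A C) = RingHom.ker (algebraMap C k) := by
    refine le_antisymm (Ideal.map_le_iff_le_comap.2 fun a ha => ?_) fun c hc => ?_
    · rw [Ideal.mem_comap, RingHom.mem_ker, ← IsScalarTower.algebraMap_apply]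
      exact ha
    · obtain ⟨a, rfl⟩ := hC c
      rw [RingHom.mem_ker, ← IsScalarTower.algebraMap_apply] at hc
      exact Ideal.mem_map_of_mem _ hc
  have hker : RingHom.ker (algebraMap B B₀) = m.map (algebraMap A B) := by
    rw [hρk, ← hkC, Ideal.map_map, ← IsScalarTower.algebraMap_eq]
  have hP : ∀ z : P.toExtension.Ring, algebraMap P.toExtension.Ring B₀ z = MvPolynomial.aeval P.val z :=
    algebraMap_toExtension P
  have hcomm : ∀ y : R', spec0 (B₀ := B₀) val y = algebraMap P.toExtension.Ring B₀ (q y) := by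
    intro y
    rw [hP]
    show algebraMap B B₀ (MvPolynomial.aeval val y) = MvPolynomial.aeval P.val (MvPolynomial.map (algebraMap A k) y)
    induction y using MvPolynomial.induction_on with
    | C a => simp [← IsScalarTower.algebraMap_apply]
    | add p r hp hr => simp only [map_add, hp, hr]
    | mul_X p i hp => simp only [map_mul, hp, MvPolynomial.map_X, MvPolynomial.aeval_X, hval0]
  have hval : Function.Surjective (MvPolynomial.aeval (R := A) val) := by
    suffices LinearMap.range (MvPolynomial.aeval (R := A) val).toLinearMap = ⊤ from LinearMap.range_eq_top.1 this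
    refine TrivDef.eq_top_of_sup_smul_top m hm _ (eq_top_iff.2 fun b _ => ?_)
    obtain ⟨z, hz⟩ := CotT3.algebraMap_surjective P (algebraMap B B₀ b)
    obtain ⟨y, rfl⟩ := hqs z
    rw [← add_sub_cancel (MvPolynomial.aeval (R := A) val y) b]
    refine Submodule.add_mem_sup ⟨y, rfl⟩ ?_
    rw [Ideal.smul_top_eq_map, Submodule.restrictScalars_mem, ← hker, RingHom.mem_ker, map_sub, sub_eq_zero]
    exact (hz.symm.trans (hcomm y).symm)
  let K' : Ideal R' := RingHom.ker (MvPolynomial.aeval (R := A) val).toRingHom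
  have hK' : ∀ y, y ∈ K' ↔ MvPolynomial.aeval val y = 0 := fun _ => RingHom.mem_ker
  have hJK : JR ≤ K' := Ideal.map_le_iff_le_comap.2 fun a ha => by
    rw [Ideal.mem_comap, hK', AlgHom.commutes]
    exact hJB ⟨a, ha⟩
  -- elements of the special kernel lift
  have hlift : ∀ z : P.toExtension.Ring, algebraMap P.toExtension.Ring B₀ z = 0 → ∃ y ∈ K', q y = z := by
    intro z hz
    obtain ⟨y, rfl⟩ := hqs z
    have h1 : MvPolynomial.aeval val y ∈ M.map (MvPolynomial.aeval (R := A) val).toRingHom := by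
      rw [Ideal.map_map, show (MvPolynomial.aeval (R := A) val).toRingHom.comp (algebraMap A R') = algebraMap A B from
        (MvPolynomial.aeval (R := A) val).comp_algebraMap, ← hker, RingHom.mem_ker]
      exact (hcomm y).trans hz
    obtain ⟨w, hw, hwy⟩ := (Ideal.mem_map_iff_of_surjective _ hval).1 h1
    exact ⟨y - w, (hK' _).2 (by rw [map_sub, sub_eq_zero]; exact hwy.symm), by
      rw [map_sub, (hMq w).1 hw, sub_zero]⟩
  -- `K' ∩ m R' = m K' + J R'`
  have hflat : ∀ y ∈ K', q y = 0 → y ∈ M * K' ⊔ JR := by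
    intro y hy hy0
    let R := MvPolynomial ι C
    let pC : R' →+* R := MvPolynomial.map (algebraMap A C)
    let πC : R →ₐ[C] B := MvPolynomial.aeval val
    have hπC : ∀ z, πC (pC z) = MvPolynomial.aeval val z := fun z => by
      show MvPolynomial.aeval val (MvPolynomial.map (algebraMap A C) z) = _
      rw [MvPolynomial.aeval_map_algebraMap]
    have hπCs : Function.Surjective πC := fun b => by
      obtain ⟨z, rfl⟩ := hval b
      exact ⟨pC z, hπC z⟩
    let K : Submodule C R := LinearMap.ker πC.toLinearMap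
    haveI : Module.Flat C (R ⧸ K) :=
      Module.Flat.of_linearEquiv (πC.toLinearMap.quotKerEquivOfSurjective hπCs)
    have hym : pC y ∈ RingHom.ker (algebraMap C k) • (⊤ : Submodule C R) := by
      rw [Ideal.smul_top_eq_map, Submodule.restrictScalars_mem, MvPolynomial.algebraMap_eq, MvPolynomial.mem_map_C_iff]
      intro d
      rw [RingHom.mem_ker, MvPolynomial.coeff_map, ← IsScalarTower.algebraMap_apply, ← MvPolynomial.coeff_map]
      show MvPolynomial.coeff d (q y) = 0
      rw [hy0]
      exact MvPolynomial.coeff_zero d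
    have h2 := HBDef3.mem_smul_of_mem_of_flat_quot (RingHom.ker (algebraMap C k)) K
      (x := pC y) (LinearMap.mem_ker.2 ((hπC y).trans ((hK' y).1 hy))) hym
    obtain ⟨z, hz, hzy⟩ : ∃ z, z ∈ M * K' ∧ pC z = pC y := by
      refine Submodule.smul_induction_on h2 (fun c hc n hn => ?_) ?_
      · obtain ⟨a, rfl⟩ := hC c
        obtain ⟨w, rfl⟩ := MvPolynomial.map_surjective (algebraMap A C) hC n
        refine ⟨algebraMap A _ a * w, Ideal.mul_mem_mul (Ideal.mem_map_of_mem _ ?_) ?_, ?_⟩
        · rw [RingHom.mem_ker, IsScalarTower.algebraMap_apply A C k]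
          exact hc
        · rw [hK']
          exact (hπC w).symm.trans hn
        · rw [map_mul, Algebra.smul_def, MvPolynomial.algebraMap_eq, MvPolynomial.algebraMap_eq]
          show MvPolynomial.map _ (MvPolynomial.C a) * _ = _
          rw [MvPolynomial.map_C]
      · rintro _ _ ⟨a, ha, rfl⟩ ⟨b, hb, rfl⟩
        exact ⟨a + b, add_mem ha hb, map_add pC a b⟩
    rw [← add_sub_cancel z y]
    refine Submodule.add_mem_sup hz ?_
    show y - z ∈ J.map (algebraMap A R')
    rw [MvPolynomial.algebraMap_eq, MvPolynomial.mem_map_C_iff]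
    intro d
    rw [← hJ, RingHom.mem_ker, ← MvPolynomial.coeff_map, map_sub]
    show MvPolynomial.coeff d (pC y - pC z) = 0
    rw [hzy, sub_self, MvPolynomial.coeff_zero]
  choose g hgK hgq using fun s => hlift (rel P s) (algebraMap_rel P s)
  let jm : (σ →₀ R') →ₗ[R'] R' := Finsupp.linearCombination R' g
  let qF : (σ →₀ R') →+ relMod P := Finsupp.mapRange.addMonoidHom q.toAddMonoidHom
  have hqF : ∀ c : σ →₀ R', jmap P (qF c) = q (jm c) := by
    intro c
    induction c using Finsupp.induction_linear with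
    | zero => simp
    | add u v hu hv => simp only [map_add, hu, hv]
    | single s r =>
      show jmap P (Finsupp.mapRange q (map_zero q) (Finsupp.single s r)) = q (jm _)
      rw [Finsupp.mapRange_single, jmap_single, Finsupp.linearCombination_single, smul_eq_mul, map_mul, hgq]
  have hqFsmul : ∀ (r : R') c, qF (r • c) = q r • qF c := fun r c => Finsupp.ext fun s => by
    show q (r * c s) = q r * q (c s)
    rw [map_mul]
  have hqFs : Function.Surjective qF := Finsupp.mapRange_surjective _ (map_zero q) hqs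
  have hjmK : ∀ c, jm c ∈ K' := fun c => by
    show Finsupp.linearCombination R' g c ∈ K'
    rw [Finsupp.linearCombination_apply]
    exact Submodule.sum_mem _ fun s _ => Ideal.mul_mem_left _ _ (hgK s)
  -- `K' = (g) + J R'`
  have hspan : K' ≤ LinearMap.range jm ⊔ JR := by
    have h1 : K' ≤ (LinearMap.range jm ⊔ JR) ⊔ M • K' := by
      intro y hy
      have : q y ∈ LinearMap.range (jmap P) := by
        rw [range_jmap]
        show q y ∈ P.toExtension.ker
        rw [RingHom.mem_ker, ← hcomm, spec0, (hK' y).1 hy, map_zero]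
      obtain ⟨f, hf⟩ := this
      obtain ⟨c, rfl⟩ := hqFs f
      have h2 := hflat (y - jm c) (sub_mem hy (hjmK c)) (by rw [map_sub, ← hqF, hf, sub_self])
      obtain ⟨u, hu, v, hv, huv⟩ := Submodule.mem_sup.1 h2
      rw [show y = (jm c + v) + u by linear_combination -huv]
      exact Submodule.add_mem_sup (Submodule.add_mem_sup (LinearMap.mem_range_self jm c) hv) hu
    have hiter : ∀ n : ℕ, K' ≤ (LinearMap.range jm ⊔ JR) ⊔ M ^ n • K' := by
      intro n
      induction n with
      | zero => simp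
      | succ n ih =>
        refine ih.trans (sup_le le_sup_left ((Submodule.smul_mono le_rfl h1).trans ?_))
        rw [Submodule.smul_sup, ← Submodule.mul_smul, ← pow_succ]
        exact sup_le_sup_right Submodule.smul_le_right _
    obtain ⟨n, hn⟩ := hm
    have hMn : M ^ n = ⊥ := by rw [← Ideal.map_pow, hn, Ideal.zero_eq_bot, Ideal.map_bot]
    have h := hiter n
    rwa [hMn, Submodule.bot_smul, sup_bot_eq] at h
  obtain ⟨N, hN1, hN2⟩ := exists_nut (B₀ := B₀) J val hres
  -- relations of the special fibre lift modulo `J`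
  have hrel : ∀ f : relKer P, ∃ c, qF c = f.1 ∧ jm c ∈ JR := by
    intro f
    obtain ⟨c, hc⟩ := hqFs f.1
    have h2 := hflat (jm c) (hjmK c) (by rw [← hqF, hc]; exact LinearMap.mem_ker.1 f.2)
    let S : Ideal R' :=
      { carrier := {y | ∃ d, qF d = 0 ∧ y - jm d ∈ JR}
        zero_mem' := ⟨0, map_zero _, by simp⟩
        add_mem' := by
          rintro a b ⟨d, hd, ha⟩ ⟨e, he, hb⟩
          refine ⟨d + e, by rw [map_add, hd, he, add_zero], ?_⟩
          rw [map_add, add_sub_add_comm]
          exact add_mem ha hb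
        smul_mem' := by
          rintro r a ⟨d, hd, ha⟩
          refine ⟨r • d, by rw [hqFsmul, hd, smul_zero], ?_⟩
          rw [map_smul, smul_eq_mul, smul_eq_mul, ← mul_sub]
          exact Ideal.mul_mem_left _ _ ha }
    have hS : M * K' ⊔ JR ≤ S := by
      refine sup_le (Ideal.mul_le.2 fun a ha b hb => ?_) fun y hy => ⟨0, map_zero _, by simpa using hy⟩
      obtain ⟨u, ⟨d, rfl⟩, v, hv, rfl⟩ := Submodule.mem_sup.1 (hspan hb)
      refine ⟨a • d, by rw [hqFsmul, (hMq a).1 ha, zero_smul], ?_⟩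
      rw [map_smul, smul_eq_mul, ← mul_sub, add_sub_cancel_left]
      exact Ideal.mul_mem_left _ _ hv
    obtain ⟨d, hd, hd'⟩ := hS h2
    exact ⟨c - d, by rw [map_sub, hd, sub_zero, hc], by rw [map_sub]; exact hd'⟩
  -- the obstruction is well defined
  have hwd : ∀ c (h : jm c ∈ JR), qF c = 0 → N ⟨jm c, h⟩ = 0 := by
    intro c h hc
    have hmem : jm c ∈ m • K'.restrictScalars A := by
      show Finsupp.linearCombination R' g c ∈ _
      rw [Finsupp.linearCombination_apply]
      refine Submodule.sum_mem _ fun s _ => ?_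
      show c s • g s ∈ _
      have hs : c s ∈ m • (⊤ : Submodule A R') := by
        rw [Ideal.smul_top_eq_map]
        refine (hMq _).2 ?_
        exact Finsupp.ext_iff.1 hc s
      refine Submodule.smul_induction_on hs (fun a ha r _ => ?_) fun u v hu hv => by
        rw [add_smul]; exact add_mem hu hv
      rw [smul_assoc]
      exact Submodule.smul_mem_smul ha (Ideal.mul_mem_left _ _ (hgK s))
    obtain ⟨n, a, y, ha, hy, hsum⟩ : ∃ (n : ℕ) (a : Fin n → A) (y : Fin n → R'), (∀ i, a i ∈ m) ∧
        (∀ i, y i ∈ K') ∧ ∑ i, algebraMap A R' (a i) * y i = jm c := by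
      refine Submodule.smul_induction_on hmem (fun a ha w hw => ⟨1, fun _ => a, fun _ => w, fun _ => ha, fun _ => hw, by
        rw [Fin.sum_univ_one, Algebra.smul_def]⟩) ?_
      rintro u v ⟨n, a, y, ha, hy, rfl⟩ ⟨n', a', y', ha', hy', rfl⟩
      exact ⟨n + n', Fin.append a a', Fin.append y y', Fin.addCases (by simpa using ha) (by simpa using ha'),
        Fin.addCases (by simpa using hy) (by simpa using hy'), by simp [Fin.sum_univ_add]⟩
    obtain ⟨n', b, κ, hκ, he⟩ := rel_key (k := k) J val hC hJ hval (s := ULift.{u} (Fin n)) (fun i => a i.down)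
      (fun i => RingHom.mem_ker.1 (ha i.down)) (fun i => y i.down) (fun i => (hK' _).1 (hy i.down)) (by
        rw [show ∑ i : ULift.{u} (Fin n), algebraMap A R' (a i.down) * y i.down = jm c from
          (Equiv.sum_comp Equiv.ulift fun i => algebraMap A R' (a i) * y i).trans hsum]
        exact h)
    have hsum' : jm c = ∑ j, algebraMap A R' ((b j : A)) * κ j := by
      rw [← he, ← hsum]
      exact (Equiv.sum_comp Equiv.ulift fun i => algebraMap A R' (a i) * y i).symm
    have hj : ∀ j, algebraMap A R' ((b j : A)) * κ j ∈ JR := fun j =>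
      Ideal.mul_mem_right _ _ (Ideal.mem_map_of_mem _ (b j).2)
    rw [show (⟨jm c, h⟩ : ↥JR) = ∑ j, ⟨_, hj j⟩ from Subtype.ext (hsum'.trans (by rw [Submodule.coe_sum])),
      map_sum]
    refine Finset.sum_eq_zero fun j _ => ?_
    rw [hN1, spec0, hκ, map_zero, TensorProduct.zero_tmul]
  choose lft hlft1 hlft2 using hrel
  let ψ : relKer P → B₀ ⊗[k] J := fun f => N ⟨jm (lft f), hlft2 f⟩
  have hψ : ∀ (c) (h : jm c ∈ JR) (f : relKer P), qF c = f.1 → ψ f = N ⟨jm c, h⟩ := by
    intro c h f hf
    have h' : jm (lft f - c) ∈ JR := by rw [map_sub]; exact sub_mem (hlft2 f) h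
    have := hwd _ h' (by rw [map_sub, hlft1, hf, sub_self])
    rw [show (⟨jm (lft f - c), h'⟩ : ↥JR) = ⟨jm (lft f), hlft2 f⟩ - ⟨jm c, h⟩ from Subtype.ext (map_sub jm _ _),
      map_sub, sub_eq_zero] at this
    exact this
  have hψadd : ∀ f f', ψ (f + f') = ψ f + ψ f' := fun f f' => by
    have h : jm (lft f + lft f') ∈ JR := by rw [map_add]; exact add_mem (hlft2 f) (hlft2 f')
    rw [hψ _ h (f + f') (by rw [map_add, hlft1, hlft1]; rfl), show (⟨jm (lft f + lft f'), h⟩ : ↥JR) =
      ⟨jm (lft f), hlft2 f⟩ + ⟨jm (lft f'), hlft2 f'⟩ from Subtype.ext (map_add jm _ _), map_add]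
  have hψsmul : ∀ (r : P.toExtension.Ring) (f : relKer P), ψ (r • f) = algebraMap P.toExtension.Ring B₀ r • ψ f := by
    intro r f
    obtain ⟨r', rfl⟩ := hqs r
    have h : jm (r' • lft f) ∈ JR := by rw [map_smul]; exact Ideal.mul_mem_left _ _ (hlft2 f)
    rw [hψ _ h (q r' • f) (by rw [hqFsmul, hlft1]; rfl), show (⟨jm (r' • lft f), h⟩ : ↥JR) =
      r' • ⟨jm (lft f), hlft2 f⟩ from Subtype.ext (map_smul jm _ _), hN2, ← hcomm, spec0,
      IsScalarTower.algebraMap_smul]
  have hψtriv : ∀ f : relKer P, f.1 ∈ trivRel P → ψ f = 0 := by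
    intro f hf
    suffices H : ∀ y ∈ trivRel P, ∃ c, qF c = y ∧ jm c = 0 by
      obtain ⟨c, hc, hc0⟩ := H _ hf
      rw [hψ c (by rw [hc0]; exact zero_mem _) f hc]
      rw [show (⟨jm c, _⟩ : ↥JR) = 0 from Subtype.ext hc0, map_zero]
    intro y hy
    induction hy using Submodule.span_induction with
    | zero => exact ⟨0, map_zero _, map_zero _⟩
    | add u v _ _ hu hv =>
      obtain ⟨c, hc, hc0⟩ := hu
      obtain ⟨d, hd, hd0⟩ := hv
      exact ⟨c + d, by rw [map_add, hc, hd], by rw [map_add, hc0, hd0, add_zero]⟩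
    | smul r u _ hu =>
      obtain ⟨c, hc, hc0⟩ := hu
      obtain ⟨r', rfl⟩ := hqs r
      exact ⟨r' • c, by rw [hqFsmul, hc], by rw [map_smul, hc0, smul_zero]⟩
    | mem u hu =>
      obtain ⟨a, b, rfl⟩ := hu
      obtain ⟨a, rfl⟩ := hqFs a
      obtain ⟨b, rfl⟩ := hqFs b
      refine ⟨jm a • b - jm b • a, by rw [map_sub, hqFsmul, hqFsmul, hqF, hqF], ?_⟩
      rw [map_sub, map_smul, map_smul, smul_eq_mul, smul_eq_mul, mul_comm, sub_self]
  -- the obstruction class in `T²`
  let ψ2 : L2 P → B₀ ⊗[k] J := fun z => ψ (Function.surjInv (L2mk_surjective P) z)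
  have hψ2 : ∀ f, ψ2 (L2mk P f) = ψ f := by
    intro f
    let f' := Function.surjInv (L2mk_surjective P) (L2mk P f)
    have hf' : (f' - f : relKer P).1 ∈ trivRel P := (L2mk_eq_iff P f' f).1 (Function.surjInv_eq _ _)
    have := hψadd (f' - f) f
    rw [show f' - f + f = f' from Subtype.ext (sub_add_cancel f'.1 f.1), hψtriv _ hf', zero_add] at this
    exact this
  let Ψ : L2 P →ₗ[B₀] B₀ ⊗[k] J :=
    { toFun := ψ2
      map_add' := fun z w => by
        obtain ⟨f, rfl⟩ := L2mk_surjective P z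
        obtain ⟨f', rfl⟩ := L2mk_surjective P w
        rw [← map_add, hψ2, hψ2, hψ2, hψadd]
      map_smul' := fun c z => by
        obtain ⟨f, rfl⟩ := L2mk_surjective P z
        obtain ⟨r, rfl⟩ := CotT3.algebraMap_surjective P c
        rw [algebraMap_smul, ← map_smul, hψ2, hψ2, hψsmul, RingHom.id_apply] }
  refine ⟨Submodule.Quotient.mk Ψ, fun L _ _ _ _ G hG => ?_⟩
  obtain ⟨v, hv⟩ : G ∘ₗ Ψ ∈ LinearMap.range (d2Star P L) := (Submodule.Quotient.mk_eq_zero _).1 hG
  let NG : ↥JR →+ L := G.toAddMonoidHom.comp N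
  have hNG2 : ∀ (c : R') y, NG (c • y) = MvPolynomial.aeval val c • NG y := fun c y => by
    show G (N (c • y)) = _ • G (N y)
    rw [hN2, ← algebraMap_smul B₀ (MvPolynomial.aeval val c) (N y), map_smul, algebraMap_smul]
  -- the map on `K'`
  let w : (σ →₀ R') → L := fun c => v ((1 : B₀) ⊗ₜ qF c)
  have hw_add : ∀ c d, w (c + d) = w c + w d := fun c d => by
    show v _ = v _ + v _
    rw [map_add, TensorProduct.tmul_add, map_add]
  have hw_smul : ∀ (r : R') c, w (r • c) = MvPolynomial.aeval val r • w c := fun r c => by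
    show v _ = _ • v _
    rw [hqFsmul, one_tmul_smul, map_smul, ← hcomm, spec0, IsScalarTower.algebraMap_smul]
  have hw_JR : ∀ c (h : jm c ∈ JR), w c = NG ⟨jm c, h⟩ := by
    intro c h
    have hker' : qF c ∈ relKer P := by
      show qF c ∈ LinearMap.ker (jmap P)
      rw [LinearMap.mem_ker, hqF]
      exact (hMq _).1 (Ideal.map_mono hJm h)
    show w c = G (N ⟨jm c, h⟩)
    rw [← hψ c h ⟨qF c, hker'⟩ rfl, ← hψ2]
    show v _ = (G ∘ₗ Ψ) (L2mk P ⟨qF c, hker'⟩)
    rw [← hv, d2Star_apply, LinearMap.comp_apply, d2_L2mk]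
  have hdec : ∀ y : K', ∃ c, y.1 - jm c ∈ JR := fun y => by
    obtain ⟨u, ⟨c, rfl⟩, t, ht, e⟩ := Submodule.mem_sup.1 (hspan y.2)
    exact ⟨c, by rw [← e, add_sub_cancel_left]; exact ht⟩
  choose dc hdc using hdec
  let φ0 : K' → L := fun y => w (dc y) + NG ⟨y.1 - jm (dc y), hdc y⟩
  have hφ0 : ∀ (y : K') c (h : y.1 - jm c ∈ JR), φ0 y = w c + NG ⟨y.1 - jm c, h⟩ := by
    intro y c h
    have h' : jm (c - dc y) ∈ JR := by
      rw [map_sub, show jm c - jm (dc y) = (y.1 - jm (dc y)) - (y.1 - jm c) by abel]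
      exact sub_mem (hdc y) h
    have h1 := hw_JR _ h'
    rw [show (⟨jm (c - dc y), h'⟩ : ↥JR) = ⟨y.1 - jm (dc y), hdc y⟩ - ⟨y.1 - jm c, h⟩ from
      Subtype.ext (by show jm (c - dc y) = (y.1 - jm (dc y)) - (y.1 - jm c); rw [map_sub]; abel), map_sub] at h1
    have h2 := hw_add (c - dc y) (dc y)
    rw [sub_add_cancel, h1] at h2
    show w (dc y) + NG _ = _
    rw [h2]
    abel
  -- a presentation of `B`
  let Gen := Algebra.Generators.ofSurjective val hval
  let PA : Algebra.Presentation A B ι Gen.ker :=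
    { Gen with
      relation := Subtype.val
      span_range_relation_eq_ker := by
        refine le_antisymm (Ideal.span_le.mpr ?_) fun x hx => Ideal.subset_span ⟨⟨x, hx⟩, rfl⟩
        rintro _ ⟨r, rfl⟩
        exact r.2 }
  have hkP : PA.toExtension.ker = K' := Algebra.Generators.ker_eq_ker_aeval_val (P := PA.toGenerators)
  let inK : PA.toExtension.ker → K' := fun y => ⟨y.1, hkP.le y.2⟩
  let gl : PA.toExtension.ker → L := fun y => φ0 (inK y)
  have hgadd : ∀ y y', gl (y + y') = gl y + gl y' := by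
    intro y y'
    have h : (inK (y + y')).1 - jm (dc (inK y) + dc (inK y')) ∈ JR := by
      rw [map_add, show (inK (y + y')).1 = (inK y).1 + (inK y').1 from rfl, add_sub_add_comm]
      exact add_mem (hdc _) (hdc _)
    show φ0 _ = φ0 _ + φ0 _
    rw [hφ0 _ _ h, hw_add, show (⟨_, h⟩ : ↥JR) = ⟨_, hdc (inK y)⟩ + ⟨_, hdc (inK y')⟩ from
      Subtype.ext (by
        show (inK y).1 + (inK y').1 - jm (dc (inK y) + dc (inK y')) = _ + _
        rw [map_add, add_sub_add_comm]), map_add]
    show _ = (w (dc (inK y)) + _) + (w (dc (inK y')) + _)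
    abel
  have hgsmul : ∀ (r : PA.toExtension.Ring) y, gl (r • y) = algebraMap PA.toExtension.Ring B r • gl y := by
    intro r y
    have hr : algebraMap PA.toExtension.Ring B r = MvPolynomial.aeval val r := algebraMap_toExtension PA r
    let r' : R' := r
    have h : (inK (r • y)).1 - jm (r' • dc (inK y)) ∈ JR := by
      rw [map_smul, show (inK (r • y)).1 = r' * (inK y).1 from rfl, smul_eq_mul, ← mul_sub]
      exact Ideal.mul_mem_left _ _ (hdc _)
    show φ0 _ = _ • φ0 _
    rw [hφ0 _ _ h, hw_smul, show (⟨_, h⟩ : ↥JR) = r' • ⟨_, hdc (inK y)⟩ from Subtype.ext (by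
      show r' * (inK y).1 - jm (r' • dc (inK y)) = r' * _
      rw [map_smul, smul_eq_mul, mul_sub]), hNG2, ← smul_add, hr]
  letI : Module PA.toExtension.Ring (L) := Module.compHom _ (algebraMap PA.toExtension.Ring B)
  let glL : PA.toExtension.ker →ₗ[PA.toExtension.Ring] L :=
    { toFun := gl, map_add' := hgadd, map_smul' := hgsmul }
  have hkl : LinearMap.ker (Algebra.Extension.Cotangent.mk (P := PA.toExtension)) ≤ LinearMap.ker glL := by
    rw [Algebra.Extension.Cotangent.ker_mk]
    refine Submodule.smul_le.2 fun r hr x _ => ?_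
    rw [LinearMap.mem_ker, map_smul]
    change algebraMap PA.toExtension.Ring B r • gl x = 0
    rw [RingHom.mem_ker.1 hr, zero_smul]
  let φ₀ : PA.toExtension.Cotangent → L := fun c =>
    glL (Function.surjInv Algebra.Extension.Cotangent.mk_surjective c)
  have hφ₀ : ∀ x, φ₀ (Algebra.Extension.Cotangent.mk x) = glL x := fun x => by
    rw [← sub_eq_zero, ← map_sub, ← LinearMap.mem_ker]
    exact hkl (by rw [LinearMap.mem_ker, map_sub, Function.surjInv_eq Algebra.Extension.Cotangent.mk_surjective, sub_self])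
  let φL : PA.toExtension.Cotangent →ₗ[B] L :=
    { toFun := φ₀
      map_add' := fun c d => by
        obtain ⟨x, rfl⟩ := Algebra.Extension.Cotangent.mk_surjective c
        obtain ⟨y, rfl⟩ := Algebra.Extension.Cotangent.mk_surjective d
        rw [← map_add, hφ₀, hφ₀, hφ₀, map_add]
      map_smul' := fun b c => by
        obtain ⟨x, rfl⟩ := Algebra.Extension.Cotangent.mk_surjective c
        obtain ⟨r, rfl⟩ := CotT3.algebraMap_surjective PA b
        rw [algebraMap_smul, ← map_smul, hφ₀, hφ₀, map_smul]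
        rfl }
  obtain ⟨X, h, hh⟩ := exists_classified_ext PA φL
  refine ⟨X, fun j => ?_⟩
  have hj : (MvPolynomial.C (j : A) : R') ∈ PA.toExtension.ker := hkP.ge ((hK' _).2 (by
    rw [MvPolynomial.aeval_C]; exact hJB j))
  refine (hh.1 (j : A)).symm.trans ((hh.2.2 ⟨_, hj⟩).trans (congrArg X.incl ?_))
  show φ₀ _ = G (nu J j)
  rw [hφ₀]
  have hjJ : (MvPolynomial.C (j : A) : R') - jm 0 ∈ JR := by
    rw [map_zero, sub_zero]; exact Ideal.mem_map_of_mem _ j.2
  show φ0 (inK ⟨_, hj⟩) = G (nu J j)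
  rw [hφ0 _ 0 hjJ, show w 0 = 0 by show v _ = 0; rw [map_zero, TensorProduct.tmul_zero, map_zero], zero_add,
    show (⟨_, hjJ⟩ : ↥JR) = ⟨algebraMap A R' (j : A) * 1, by rw [mul_one]; exact Ideal.mem_map_of_mem _ j.2⟩ from
      Subtype.ext (by show (MvPolynomial.C (j : A) : R') - jm 0 = algebraMap A R' (j : A) * 1; rw [map_zero, sub_zero, mul_one]; rfl), ]
  show G (N _) = _
  rw [hN1, spec0, map_one, map_one]
  rfl

/-- If `T²(B₀/k, B₀ ⊗ J) = 0` then `B` lifts. -/
theorem exists_ext [Module.Flat C B] (hC : Function.Surjective (algebraMap A C))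
    (hJ : RingHom.ker (algebraMap A C) = J) (hres : Function.Surjective (algebraMap A k))
    (hm : IsNilpotent (RingHom.ker (algebraMap A k)))
    (hρ : Function.Surjective (algebraMap B B₀))
    (hρk : RingHom.ker (algebraMap B B₀) = (RingHom.ker (algebraMap C k)).map (algebraMap C B))
    (P : Algebra.Presentation k B₀ ι σ) (hT2 : Subsingleton (T2 P (B₀ ⊗[k] J))) :
    ∃ X : Exal.Ext A B (B₀ ⊗[k] J), ∀ j : J, algebraMap A X.E j = X.incl (nu J j) := by
  obtain ⟨ob, hob⟩ := exists_obstruction J hC hJ hres hm hρ hρk P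
  exact hob _ LinearMap.id (Subsingleton.elim _ _)

end Groth.Agent.DefAff3
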