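import Groth.Agent.Lib.DefAff3.Alg
import Groth.Agent.Lib.ThickAff3.BaseChange
import Groth.Prelude.Def_ArtFun4
import Mathlib.AlgebraicGeometry.AffineScheme
import Mathlib.AlgebraicGeometry.Pullbacks
import Mathlib.RingTheory.HopkinsLevitzki

/-!
# Deformations of affine schemes and extensions of algebras
-/

set_option autoImplicit false
set_option backward.isDefEq.respectTransparency false
set_option linter.style.haveILetI false

universe u

open CategoryTheory CategoryTheory.Limits AlgebraicGeometry TensorProduct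

noncomputable section

namespace Groth.Agent.DefAff3

open ArtFun

/-- Two ring maps out of a surjection with the extended kernel form a pushout square. -/
theorem isPushout_of_surjective {R R₀ C C₀ : CommRingCat.{u}} (φ : R ⟶ C) (a : R ⟶ R₀) (ψ : C ⟶ C₀) (φ₀ : R₀ ⟶ C₀)
    (w : φ ≫ ψ = a ≫ φ₀) (ha : Function.Surjective a.hom) (hψ : Function.Surjective ψ.hom)
    (hker : RingHom.ker ψ.hom ≤ (RingHom.ker a.hom).map φ.hom) : IsPushout φ a ψ φ₀ := by
  refine ⟨⟨w⟩, ⟨PushoutCocone.IsColimit.mk w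
    (fun s => CommRingCat.ofHom (RingHom.liftOfRightInverse ψ.hom _ (Function.rightInverse_surjInv hψ) ⟨s.inl.hom, ?_⟩))
    (fun s => ?_) (fun s => ?_) fun s m h1 h2 => ?_⟩⟩
  · refine hker.trans (Ideal.map_le_iff_le_comap.mpr fun r hr => ?_)
    rw [Ideal.mem_comap, RingHom.mem_ker]
    have e := congrArg (fun k => k.hom r) s.condition
    rw [CommRingCat.comp_apply, CommRingCat.comp_apply, RingHom.mem_ker.mp hr, map_zero] at e
    exact e
  · exact CommRingCat.hom_ext (RingHom.ext fun c => RingHom.liftOfRightInverse_comp_apply ψ.hom _ (Function.rightInverse_surjInv hψ) _ c)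
  · refine CommRingCat.hom_ext (RingHom.ext fun r => ?_)
    obtain ⟨r, rfl⟩ := ha r
    have e := congrArg (fun k => k.hom r) w
    have e' := congrArg (fun k => k.hom r) s.condition
    simp only [CommRingCat.hom_comp, RingHom.comp_apply, CommRingCat.hom_ofHom] at e e' ⊢
    rw [← e, RingHom.liftOfRightInverse_comp_apply]
    exact e'
  · refine CommRingCat.hom_ext (RingHom.ext fun c => ?_)
    obtain ⟨c, rfl⟩ := hψ c
    rw [CommRingCat.hom_ofHom, RingHom.liftOfRightInverse_comp_apply]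
    exact congrArg (fun k => k.hom c) h1

/-- In a pushout square of rings, the base change of a surjection is surjective with extended kernel. -/
theorem data_of_isPushout {A B C D : CommRingCat.{u}} {a : A ⟶ B} {b : A ⟶ C} {i : B ⟶ D} {j : C ⟶ D}
    (h : IsPushout a b i j) (hb : Function.Surjective b.hom) :
    Function.Surjective i.hom ∧ RingHom.ker i.hom = (RingHom.ker b.hom).map a.hom := by
  let P := (RingHom.ker b.hom).map a.hom
  let f : {f : A →+* B ⧸ P // RingHom.ker b.hom ≤ RingHom.ker f} :=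
    ⟨(Ideal.Quotient.mk P).comp a.hom, fun x hx => Ideal.Quotient.eq_zero_iff_mem.2 (Ideal.mem_map_of_mem _ hx)⟩
  let q₂ : C →+* B ⧸ P := b.hom.liftOfSurjective hb f
  have hw : a ≫ CommRingCat.ofHom (Ideal.Quotient.mk P) = b ≫ CommRingCat.ofHom q₂ :=
    CommRingCat.hom_ext (RingHom.liftOfSurjective_comp b.hom hb f).symm
  have h' : IsPushout a b (CommRingCat.ofHom (Ideal.Quotient.mk P)) (CommRingCat.ofHom q₂) :=
    isPushout_of_surjective a b _ _ hw hb Ideal.Quotient.mk_surjective Ideal.mk_ker.le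
  have e := h'.inl_isoIsPushout_hom _ _ h
  constructor
  · rw [← e]
    exact (h'.isoIsPushout _ _ h).commRingCatIsoToRingEquiv.surjective.comp Ideal.Quotient.mk_surjective
  · ext x
    rw [RingHom.mem_ker, ← e]
    show (h'.isoIsPushout _ _ h).commRingCatIsoToRingEquiv (Ideal.Quotient.mk P x) = 0 ↔ _
    rw [map_eq_zero_iff _ (RingEquiv.injective _), Ideal.Quotient.eq_zero_iff_mem]

variable {k : Type u} [Field k]

theorem res_sub_mem {A : Art k k} (a : A) :
    a - algebraMap k A (A.res a) ∈ IsLocalRing.maximalIdeal A := by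
  rw [A.mem_maximalIdeal_iff, map_sub, A.res.commutes, Algebra.algebraMap_self, RingHom.id_apply, sub_self]

theorem isAffine_total {B₀ : Type u} [CommRing B₀] {x : Spec (CommRingCat.of B₀) ⟶ Art.specPt k} {A : Art k k}
    (ξ : DefSch (Spec (CommRingCat.of B₀)) x A) : IsAffine ξ.total :=
  ThickAff3.isAffine_of_isPullback A.res.toRingHom A.res_surjective ξ.isPullback

variable {B₀ : Type u} [CommRing B₀] [Algebra k B₀]

/-- The structure morphism of `Spec B₀`. -/
abbrev str₀ (k B₀ : Type u) [Field k] [CommRing B₀] [Algebra k B₀] : Spec (CommRingCat.of B₀) ⟶ Art.specPt k :=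
  Spec.map (CommRingCat.ofHom (algebraMap k B₀))

variable {C' C : Art k k} (p : C' ⟶ C) (𝒳 : DefSch (Spec (CommRingCat.of B₀)) (str₀ k B₀) C)

/-- Extensions of a deformation along `p`. -/
abbrev Pt := Σ 𝒳' : DefSch (Spec (CommRingCat.of B₀)) (str₀ k B₀) C', (𝒳'.baseChange p).Iso 𝒳

/-- Isomorphism of extensions. -/
abbrev Rel (a b : Pt p 𝒳) : Prop := ∃ ψ : a.1.Iso b.1, ((ψ.baseChange p).trans b.2).iso = a.2.iso

variable {p 𝒳}

/-- The inclusion of the given deformation in an extension. -/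
def emb (a : Pt p 𝒳) : 𝒳.total ⟶ a.1.total := a.2.iso.inv ≫ pullback.fst _ _

theorem inv_snd (a : Pt p 𝒳) : a.2.iso.inv ≫ pullback.snd a.1.f (Art.specMap p) = 𝒳.f := a.2.symm.hom_f

theorem emb_isPullback (a : Pt p 𝒳) : IsPullback (emb a) 𝒳.f a.1.f (Art.specMap p) :=
  IsPullback.of_iso (IsPullback.of_hasPullback a.1.f (Art.specMap p)) a.2.iso (Iso.refl _) (Iso.refl _)
    (Iso.refl _) (by simp [emb]) (by
      rw [Iso.refl_hom, Category.comp_id]
      exact a.2.hom_f.symm) (by simp) (by simp)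

theorem i_emb (a : Pt p 𝒳) : 𝒳.i ≫ emb a = a.1.i := by
  rw [emb, ← Category.assoc, show 𝒳.i ≫ a.2.iso.inv = (a.1.baseChange p).i from a.2.symm.i_hom]
  exact DefSch.baseChange_i_fst a.1 p

theorem rel_iff (a b : Pt p 𝒳) : Rel p 𝒳 a b ↔ ∃ ψ : a.1.Iso b.1, emb a ≫ ψ.iso.hom = emb b := by
  refine exists_congr fun ψ => ⟨fun h => ?_, fun h => Iso.ext ?_⟩
  · have h' : DefSch.pullMap ψ.iso.hom ψ.hom_f p ≫ b.2.iso.hom = a.2.iso.hom := congrArg Iso.hom h
    have h'' : b.2.iso.inv = a.2.iso.inv ≫ DefSch.pullMap ψ.iso.hom ψ.hom_f p := by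
      rw [Iso.eq_inv_comp, Iso.comp_inv_eq]
      exact h'.symm
    rw [emb, emb, h'', Category.assoc, Category.assoc, DefSch.pullMap_fst]
  · show DefSch.pullMap ψ.iso.hom ψ.hom_f p ≫ b.2.iso.hom = a.2.iso.hom
    rw [← Iso.eq_comp_inv]
    apply pullback.hom_ext
    · rw [DefSch.pullMap_fst, Category.assoc, show b.2.iso.inv ≫ pullback.fst _ _ = emb b from rfl, ← h, emb,
        ← Category.assoc, ← Category.assoc, Iso.hom_inv_id, Category.id_comp]
    · rw [DefSch.pullMap_snd, Category.assoc, inv_snd]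
      exact a.2.hom_f.symm

variable (p 𝒳)

/-- Extensions of an affine deformation along a small surjection correspond to `T¹(B₀/k, B₀ ⊗ ker p)`. -/
theorem nonempty_quot_equiv_T1 (hp : Art.IsSemismallExt p) (a₀ : Pt p 𝒳) :
    Nonempty (Quot (Rel p 𝒳) ≃ CotT.T1 (CotT.canon k B₀) (B₀ ⊗[k] ↥(RingHom.ker p.toAlgHom))) := by
  classical
  haveI : IsAffine 𝒳.total := isAffine_total 𝒳
  haveI hAff : ∀ a : Pt p 𝒳, IsAffine a.1.total := fun a => isAffine_total a.1
  let B := Γ(𝒳.total, ⊤)
  let φ : CommRingCat.of C ⟶ B := Spec.preimage (𝒳.total.isoSpec.inv ≫ 𝒳.f)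
  let ρ : B ⟶ CommRingCat.of B₀ := Spec.preimage (𝒳.i ≫ 𝒳.total.isoSpec.hom)
  have hφ : Spec.map φ = 𝒳.total.isoSpec.inv ≫ 𝒳.f := Spec.map_preimage _
  have hρm : Spec.map ρ = 𝒳.i ≫ 𝒳.total.isoSpec.hom := Spec.map_preimage _
  have hpb : IsPullback (Spec.map ρ) (Spec.map (CommRingCat.ofHom (algebraMap k B₀))) (Spec.map φ)
      (Spec.map (CommRingCat.ofHom C.res.toRingHom)) :=
    IsPullback.of_iso 𝒳.isPullback (Iso.refl _) 𝒳.total.isoSpec (Iso.refl _) (Iso.refl _)
      (by simp [hρm]) (by simp) (by simp [hφ]) (by simp only [Iso.refl_hom, Category.comp_id, Category.id_comp])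
  have hpo : IsPushout φ (CommRingCat.ofHom C.res.toRingHom) ρ (CommRingCat.ofHom (algebraMap k B₀)) :=
    (show IsPullback ρ.op (CommRingCat.ofHom (algebraMap k B₀)).op φ.op (CommRingCat.ofHom C.res.toRingHom).op from
      IsPullback.of_map_of_faithful Scheme.Spec hpb).unop.flip
  obtain ⟨hρs, hρk⟩ := data_of_isPushout hpo C.res_surjective
  -- algebra structures
  letI : Algebra C' C := p.toAlgHom.toRingHom.toAlgebra
  letI : Algebra C' k := C'.res.toRingHom.toAlgebra
  letI : Algebra C k := C.res.toRingHom.toAlgebra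
  haveI : IsScalarTower C' C k := IsScalarTower.of_algebraMap_eq fun a => (DFunLike.congr_fun p.res_comp a).symm
  letI : Algebra C B := φ.hom.toAlgebra
  letI : Algebra C' B := (φ.hom.comp p.toAlgHom.toRingHom).toAlgebra
  haveI : IsScalarTower C' C B := IsScalarTower.of_algebraMap_eq fun _ => rfl
  letI : Algebra C' B₀ := ((algebraMap k B₀).comp C'.res.toRingHom).toAlgebra
  haveI : IsScalarTower C' k B₀ := IsScalarTower.of_algebraMap_eq fun _ => rfl
  letI : Algebra C B₀ := ((algebraMap k B₀).comp C.res.toRingHom).toAlgebra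
  haveI : IsScalarTower C k B₀ := IsScalarTower.of_algebraMap_eq fun _ => rfl
  letI : Algebra B B₀ := ρ.hom.toAlgebra
  haveI : IsScalarTower C B B₀ := IsScalarTower.of_algebraMap_eq fun c =>
    (congrArg (fun t : CommRingCat.of C ⟶ CommRingCat.of B₀ => t.hom c) hpo.w).symm
  haveI : IsScalarTower C' B B₀ := IsScalarTower.of_algebraMap_eq fun a => by
    show algebraMap k B₀ (C'.res a) = algebraMap B B₀ (algebraMap C B (algebraMap C' C a))
    rw [← IsScalarTower.algebraMap_apply C B B₀, IsScalarTower.algebraMap_apply C k B₀]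
    exact congrArg (algebraMap k B₀) (DFunLike.congr_fun p.res_comp a).symm
  let J : Ideal C' := RingHom.ker p.toAlgHom
  haveI : IsScalarTower C' k J := ⟨fun a c j => Subtype.ext (by
    rw [Algebra.smul_def a c, Submodule.coe_smul_of_tower, Submodule.coe_smul, Submodule.coe_smul_of_tower,
      Algebra.smul_def, smul_eq_mul, Algebra.smul_def]
    show algebraMap k C' (C'.res a * c) * (j : C') = a * (algebraMap k C' c * (j : C'))
    have h0 : (a - algebraMap k C' (C'.res a)) * (j : C') = 0 := by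
      have := Ideal.mul_mem_mul (res_sub_mem a) j.2
      rwa [hp.2, Submodule.mem_bot] at this
    rw [map_mul]
    linear_combination -(algebraMap k C' c) * h0)⟩
  haveI : Module.Flat C B := by
    have hf : Flat (Spec.map φ) := hφ ▸ inferInstance
    exact (HasRingHomProperty.Spec_iff (P := @Flat)).1 hf
  have hC : Function.Surjective (algebraMap C' C) := hp.1
  have hres : Function.Surjective (algebraMap C' k) := C'.res_surjective
  have hmax : RingHom.ker (algebraMap C' k) = IsLocalRing.maximalIdeal C' := by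
    ext a
    exact (C'.mem_maximalIdeal_iff a).symm
  have hm : IsNilpotent (RingHom.ker (algebraMap C' k)) := by
    rw [hmax, ← IsLocalRing.jacobson_eq_maximalIdeal ⊥ bot_ne_top]
    exact IsArtinianRing.isNilpotent_jacobson_bot
  have hJm : J ≤ RingHom.ker (algebraMap C' k) := hmax ▸ IsLocalRing.le_maximalIdeal (RingHom.ker_ne_top _)
  have hJnil : IsNilpotent J := by
    obtain ⟨n, hn⟩ := hm
    exact ⟨n, le_bot_iff.1 ((Ideal.pow_right_mono hJm n).trans hn.le)⟩
  -- the ring of an extension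
  let π : ∀ a : Pt p 𝒳, Γ(a.1.total, ⊤) ⟶ B := fun a =>
    Spec.preimage (𝒳.total.isoSpec.inv ≫ emb a ≫ a.1.total.isoSpec.hom)
  let φ' : ∀ a : Pt p 𝒳, CommRingCat.of C' ⟶ Γ(a.1.total, ⊤) := fun a =>
    Spec.preimage (a.1.total.isoSpec.inv ≫ a.1.f)
  have hπ : ∀ a, Spec.map (π a) = 𝒳.total.isoSpec.inv ≫ emb a ≫ a.1.total.isoSpec.hom := fun a =>
    Spec.map_preimage _
  have hφ' : ∀ a, Spec.map (φ' a) = a.1.total.isoSpec.inv ≫ a.1.f := fun a => Spec.map_preimage _
  have hpo' : ∀ a, IsPushout (φ' a) (CommRingCat.ofHom p.toAlgHom.toRingHom) (π a) φ := fun a => by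
    have hpb' : IsPullback (Spec.map (π a)) (Spec.map φ) (Spec.map (φ' a))
        (Spec.map (CommRingCat.ofHom p.toAlgHom.toRingHom)) :=
      IsPullback.of_iso (emb_isPullback a) 𝒳.total.isoSpec a.1.total.isoSpec (Iso.refl _) (Iso.refl _)
        (by simp [hπ]) (by simp [hφ]) (by simp [hφ']) (by simp only [Iso.refl_hom, Category.comp_id, Category.id_comp])
    exact (show IsPullback (π a).op φ.op (φ' a).op (CommRingCat.ofHom p.toAlgHom.toRingHom).op from
      IsPullback.of_map_of_faithful Scheme.Spec hpb').unop.flip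
  letI algR : ∀ a : Pt p 𝒳, Algebra C' Γ(a.1.total, ⊤) := fun a => (φ' a).hom.toAlgebra
  let πA : ∀ a : Pt p 𝒳, Γ(a.1.total, ⊤) →ₐ[C'] B := fun a =>
    { (π a).hom with
      commutes' := fun r => congrArg (fun t : CommRingCat.of C' ⟶ B => t.hom r) (hpo' a).w }
  haveI hflatR : ∀ a : Pt p 𝒳, Module.Flat C' Γ(a.1.total, ⊤) := fun a => by
    have hf : Flat (Spec.map (φ' a)) := (hφ' a) ▸ inferInstance
    exact (HasRingHomProperty.Spec_iff (P := @Flat)).1 hf
  choose X hX e he using fun a : Pt p 𝒳 => exists_ext_of_lift J hC hρs hρk hJm hres (πA a)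
    (data_of_isPushout (hpo' a) hp.1).1 (data_of_isPushout (hpo' a) hp.1).2
  let cl : Pt p 𝒳 → Cls C' B (B₀ ⊗[k] J) J (nu J) := fun a => Quotient.mk _ ⟨X a, hX a⟩
  -- an isomorphism of algebras over `B` is an equivalence of extensions
  have heq : ∀ (X₁ X₂ : Exal.Ext C' B (B₀ ⊗[k] J)), (∀ j : J, algebraMap C' X₁.E j = X₁.incl (nu J j)) →
      (∀ j : J, algebraMap C' X₂.E j = X₂.incl (nu J j)) → ∀ ε : X₁.E ≃ₐ[C'] X₂.E,
      (∀ v, X₂.proj (ε v) = X₁.proj v) → Nonempty (X₁.Equiv X₂) := by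
    intro X₁ X₂ h₁ h₂ ε hε
    refine ⟨⟨ε, hε, fun z => ?_⟩⟩
    induction z using TensorProduct.induction_on with
    | zero => simp
    | add u v hu hv => simp only [map_add, hu, hv]
    | tmul x₀ j =>
      obtain ⟨b, rfl⟩ := hρs x₀
      obtain ⟨v, rfl⟩ := X₁.isExtension.proj_surjective b
      have h : algebraMap B B₀ (X₁.proj v) ⊗ₜ[k] j = X₁.proj v • nu J j := by
        rw [nu, special_smul_tmul, mul_one]
      show ε (X₁.incl (algebraMap B B₀ (X₁.proj v) ⊗ₜ[k] j)) = X₂.incl (algebraMap B B₀ (X₁.proj v) ⊗ₜ[k] j)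
      rw [h, ← X₁.isExtension.mul_incl, ← h₁, map_mul, AlgEquiv.commutes, h₂, X₂.isExtension.mul_incl, hε]
  have hwd : ∀ a b, Rel p 𝒳 a b → cl a = cl b := by
    intro a b hab
    obtain ⟨ψ, hψ⟩ := (rel_iff a b).1 hab
    let m : Γ(b.1.total, ⊤) ⟶ Γ(a.1.total, ⊤) :=
      Spec.preimage (a.1.total.isoSpec.inv ≫ ψ.iso.hom ≫ b.1.total.isoSpec.hom)
    have hm : Spec.map m = a.1.total.isoSpec.inv ≫ ψ.iso.hom ≫ b.1.total.isoSpec.hom := Spec.map_preimage _
    let m' : Γ(a.1.total, ⊤) ⟶ Γ(b.1.total, ⊤) :=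
      Spec.preimage (b.1.total.isoSpec.inv ≫ ψ.iso.inv ≫ a.1.total.isoSpec.hom)
    have hm' : Spec.map m' = b.1.total.isoSpec.inv ≫ ψ.iso.inv ≫ a.1.total.isoSpec.hom := Spec.map_preimage _
    have h1 : m' ≫ m = 𝟙 _ := Spec.map_injective (by simp [hm, hm'])
    have h2 : m ≫ m' = 𝟙 _ := Spec.map_injective (by simp [hm, hm'])
    have hb : φ' b ≫ m = φ' a := Spec.map_injective (by simp [hm, hφ', ψ.hom_f])
    have hπab : m ≫ π a = π b := Spec.map_injective (by
      rw [Spec.map_comp, hπ, hπ, hm]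
      simp only [Category.assoc, Iso.hom_inv_id_assoc]
      rw [← Category.assoc (emb a), hψ])
    let μ : Γ(b.1.total, ⊤) →ₐ[C'] Γ(a.1.total, ⊤) :=
      { m.hom with commutes' := fun r => congrArg (fun t : CommRingCat.of C' ⟶ Γ(a.1.total, ⊤) => t.hom r) hb }
    have hμ : Function.Bijective μ := ⟨fun u v huv => by
      have := congrArg (fun w => m'.hom w) huv
      simpa [μ] using (congrArg (fun t : _ ⟶ Γ(b.1.total, ⊤) => t.hom u) h2).symm.trans
        (this.trans (congrArg (fun t : _ ⟶ Γ(b.1.total, ⊤) => t.hom v) h2)),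
      fun u => ⟨m'.hom u, congrArg (fun t : _ ⟶ Γ(a.1.total, ⊤) => t.hom u) h1⟩⟩
    refine Quotient.sound ⟨((heq (X b) (X a) (hX b) (hX a)
      ((e b).trans ((AlgEquiv.ofBijective μ hμ).trans (e a).symm)) fun v => ?_)).some.symm⟩
    rw [← he a, AlgEquiv.trans_apply, AlgEquiv.trans_apply, AlgEquiv.apply_symm_apply, ← he b]
    exact congrArg (fun t : Γ(b.1.total, ⊤) ⟶ B => t.hom (e b v)) hπab
  have hinj : ∀ a b, cl a = cl b → Rel p 𝒳 a b := by
    intro a b hab
    obtain ⟨E⟩ := Quotient.exact hab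
    let ε : Γ(a.1.total, ⊤) ≃ₐ[C'] Γ(b.1.total, ⊤) := (e a).symm.trans (E.toAlgEquiv.trans (e b))
    have hε : ∀ u, πA b (ε u) = πA a u := fun u => by
      show πA b (e b (E.toAlgEquiv ((e a).symm u))) = _
      rw [he b, E.proj_apply, ← he a, AlgEquiv.apply_symm_apply]
    let n : Γ(a.1.total, ⊤) ⟶ Γ(b.1.total, ⊤) := CommRingCat.ofHom ε.toRingEquiv.toRingHom
    let n' : Γ(b.1.total, ⊤) ⟶ Γ(a.1.total, ⊤) := CommRingCat.ofHom ε.symm.toRingEquiv.toRingHom
    have hn : φ' a ≫ n = φ' b := CommRingCat.hom_ext (RingHom.ext fun r => ε.commutes r)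
    have hn1 : n ≫ n' = 𝟙 _ := CommRingCat.hom_ext (RingHom.ext fun r => ε.symm_apply_apply r)
    have hn2 : n' ≫ n = 𝟙 _ := CommRingCat.hom_ext (RingHom.ext fun r => ε.apply_symm_apply r)
    have hnπ : n ≫ π b = π a := CommRingCat.hom_ext (RingHom.ext fun r => hε r)
    have hn' : φ' b ≫ n' = φ' a := CommRingCat.hom_ext (RingHom.ext fun r => ε.symm.commutes r)
    have hn'π : n' ≫ π a = π b := by rw [← hnπ, ← Category.assoc, hn2, Category.id_comp]
    let ψ : a.1.total ≅ b.1.total :=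
      { hom := a.1.total.isoSpec.hom ≫ Spec.map n' ≫ b.1.total.isoSpec.inv
        inv := b.1.total.isoSpec.hom ≫ Spec.map n ≫ a.1.total.isoSpec.inv
        hom_inv_id := by
          simp only [Category.assoc, Iso.inv_hom_id_assoc]
          rw [← Spec.map_comp_assoc, hn1, Spec.map_id, Category.id_comp, Iso.hom_inv_id]
        inv_hom_id := by
          simp only [Category.assoc, Iso.inv_hom_id_assoc]
          rw [← Spec.map_comp_assoc, hn2, Spec.map_id, Category.id_comp, Iso.hom_inv_id] }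
    have hψ : emb a ≫ ψ.hom = emb b := by
      have h3 := congrArg Spec.map hn'π
      rw [Spec.map_comp, hπ, hπ] at h3
      have h4 := congrArg (fun t => 𝒳.total.isoSpec.hom ≫ t ≫ b.1.total.isoSpec.inv) h3
      simp only [Category.assoc, Iso.hom_inv_id_assoc, Iso.hom_inv_id, Category.comp_id] at h4
      exact h4
    refine (rel_iff a b).2 ⟨⟨ψ, ?_, ?_⟩, hψ⟩
    · show (_ ≫ _ ≫ _) ≫ b.1.f = a.1.f
      rw [Category.assoc, Category.assoc, ← hφ', ← Spec.map_comp, hn', hφ', Iso.hom_inv_id_assoc]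
    · rw [← i_emb a, ← i_emb b, Category.assoc, hψ]
  have hsurj : Function.Surjective cl := by
    intro c
    induction c using Quotient.inductionOn with
    | h Y =>
      obtain ⟨Y, hY⟩ := Y
      haveI := flat_of_ext (k := k) J hC rfl hρs hρk hJm hres hJnil Y hY
      let E := CommRingCat.of Y.E
      let η : CommRingCat.of C' ⟶ E := CommRingCat.ofHom (algebraMap C' Y.E)
      let q : E ⟶ B := CommRingCat.ofHom Y.proj.toRingHom
      have hq : IsPushout η (CommRingCat.ofHom p.toAlgHom.toRingHom) q φ :=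
        isPushout_of_surjective η _ q φ (CommRingCat.hom_ext (RingHom.ext fun r => Y.proj.commutes r)) hp.1
          Y.isExtension.proj_surjective (ker_proj_eq (k := k) J Y hY hρs).le
      let g : 𝒳.total ⟶ Spec E := 𝒳.total.isoSpec.hom ≫ Spec.map q
      have hgpb : IsPullback g 𝒳.f (Spec.map η) (Art.specMap p) :=
        IsPullback.of_iso (isPullback_SpecMap_of_isPushout _ _ _ _ hq) 𝒳.total.isoSpec.symm (Iso.refl _) (Iso.refl _)
          (Iso.refl _) (by simp [g]) (by simp [hφ]) (by simp) (by simp only [Iso.refl_hom, Category.comp_id, Category.id_comp])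
      have hflat : Flat (Spec.map η) := by
        rw [HasRingHomProperty.Spec_iff (P := @Flat), CommRingCat.hom_ofHom, RingHom.flat_algebraMap_iff]
        infer_instance
      let 𝒴 : DefSch (Spec (CommRingCat.of B₀)) (str₀ k B₀) C' :=
        { total := Spec E
          f := Spec.map η
          flat := hflat
          i := 𝒳.i ≫ g
          isPullback := by
            have := 𝒳.isPullback.paste_horiz hgpb
            rwa [Art.specRes_comp] at this }
      let u : (𝒴.baseChange p).Iso 𝒳 :=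
        { iso := (IsPullback.of_hasPullback 𝒴.f (Art.specMap p)).isoIsPullback _ _ hgpb
          hom_f := IsPullback.isoIsPullback_hom_snd _ _ _ _
          i_hom := hgpb.hom_ext (by rw [Category.assoc, IsPullback.isoIsPullback_hom_fst, DefSch.baseChange_i_fst])
            (by rw [Category.assoc, IsPullback.isoIsPullback_hom_snd, 𝒳.i_f]; exact DefSch.baseChange_i_f 𝒴 p) }
      let a : Pt p 𝒳 := ⟨𝒴, u⟩
      refine ⟨a, Quotient.sound ?_⟩
      let s : E ⟶ Γ(a.1.total, ⊤) := Spec.preimage a.1.total.isoSpec.inv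
      let s' : Γ(a.1.total, ⊤) ⟶ E := Spec.preimage a.1.total.isoSpec.hom
      have hs : Spec.map s = a.1.total.isoSpec.inv := Spec.map_preimage _
      have hs' : Spec.map s' = a.1.total.isoSpec.hom := Spec.map_preimage _
      have hs1 : s ≫ s' = 𝟙 _ := Spec.map_injective (by rw [Spec.map_comp, hs, hs', Iso.hom_inv_id, Spec.map_id])
      have hs2 : s' ≫ s = 𝟙 _ := Spec.map_injective (by rw [Spec.map_comp, hs, hs', Iso.inv_hom_id, Spec.map_id])
      have hsη : φ' a ≫ s' = η := Spec.map_injective (by rw [Spec.map_comp, hφ', hs', Iso.hom_inv_id_assoc])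
      have hea : emb a = g := IsPullback.isoIsPullback_inv_fst _ _ _ _
      have hsπ : s' ≫ q = π a := Spec.map_injective (by
        rw [Spec.map_comp, hπ, hea, hs']
        simp only [g, Category.assoc, Iso.inv_hom_id_assoc])
      let ε : Γ(a.1.total, ⊤) ≃ₐ[C'] Y.E :=
        { toFun := s'.hom
          invFun := s.hom
          left_inv := fun r => congrArg (fun t : Γ(a.1.total, ⊤) ⟶ Γ(a.1.total, ⊤) => t.hom r) hs2
          right_inv := fun r => congrArg (fun t : E ⟶ E => t.hom r) hs1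
          map_mul' := map_mul s'.hom
          map_add' := map_add s'.hom
          commutes' := fun r => congrArg (fun t : CommRingCat.of C' ⟶ E => t.hom r) hsη }
      refine heq (X a) Y (hX a) hY ((e a).trans ε) fun v => ?_
      exact (congrArg (fun t : Γ(a.1.total, ⊤) ⟶ B => t.hom (e a v)) hsπ).trans (he a v)
  obtain ⟨t⟩ := nonempty_cls_equiv J hC rfl hres hm hρs hρk (X a₀) (hX a₀)
  refine ⟨(Equiv.ofBijective (Quot.lift cl hwd) ⟨fun x y => ?_, fun c => ?_⟩).trans t⟩
  · induction x using Quot.inductionOn with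
    | h a => induction y using Quot.inductionOn with
      | h b => exact fun hxy => Quot.sound (hinj a b hxy)
  · obtain ⟨a, ha⟩ := hsurj c
    exact ⟨Quot.mk _ a, ha⟩

end Groth.Agent.DefAff3
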