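import Groth.Agent.Lib.DefAff3.Scheme
import Groth.Agent.Lib.DefAff3.Lift

/-!
# `T² = 0` gives extensions of affine deformations
-/

set_option autoImplicit false
set_option backward.isDefEq.respectTransparency false
set_option linter.style.haveILetI false

universe u

open CategoryTheory CategoryTheory.Limits AlgebraicGeometry TensorProduct

noncomputable section

namespace Groth.Agent.DefAff3

open ArtFun

variable {k : Type u} [Field k] {B₀ : Type u} [CommRing B₀] [Algebra k B₀]
variable {C' C : Art k k} (p : C' ⟶ C) (𝒳 : DefSch (Spec (CommRingCat.of B₀)) (str₀ k B₀) C)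

/-- An affine deformation extends along a semismall surjection if `T²(B₀/k, B₀ ⊗ ker p) = 0`. -/
theorem nonempty_pt_of_T2 (hp : Art.IsSemismallExt p) {ι σ : Type u} (P : Algebra.Presentation k B₀ ι σ)
    (hT2 : Subsingleton (CotT.T2 P (B₀ ⊗[k] ↥(RingHom.ker p.toAlgHom)))) : Nonempty (Pt p 𝒳) := by
  classical
  haveI : IsAffine 𝒳.total := isAffine_total 𝒳
  let B := Γ(𝒳.total, ⊤)
  let φ : CommRingCat.of C ⟶ B := Spec.preimage (𝒳.total.isoSpec.inv ≫ 𝒳.f)
  let ρ : B ⟶ CommRingCat.of B₀ := Spec.preimage (𝒳.i ≫ 𝒳.total.isoSpec.hom)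
  have hφ : Spec.map φ = 𝒳.total.isoSpec.inv ≫ 𝒳.f := Spec.map_preimage _
  have hρm : Spec.map ρ = 𝒳.i ≫ 𝒳.total.isoSpec.hom := Spec.map_preimage _
  have hpb : IsPullback (Spec.map ρ) (Spec.map (CommRingCat.ofHom (algebraMap k B₀))) (Spec.map φ)
      (Spec.map (CommRingCat.ofHom C.res.toRingHom)) :=
    IsPullback.of_iso 𝒳.isPullback (Iso.refl _) 𝒳.total.isoSpec (Iso.refl _) (Iso.refl _)
      (by simp [hρm]) (by simp) (by simp [hφ]) (by simp only [Iso.refl_hom, Category.comp_id, Category.id_comp])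
  have hpo : IsPushout φ (CommRingCat.ofHom C.res.toRingHom) ρ (CommRingCat.ofHom (algebraMap k B₀)) :=
    (show IsPullback ρ.op (CommRingCat.ofHom (algebraMap k B₀)).op φ.op (CommRingCat.ofHom C.res.toRingHom).op from
      IsPullback.of_map_of_faithful Scheme.Spec hpb).unop.flip
  obtain ⟨hρs, hρk⟩ := data_of_isPushout hpo C.res_surjective
  -- algebra structures
  letI : Algebra C' C := p.toAlgHom.toRingHom.toAlgebra
  letI : Algebra C' k := C'.res.toRingHom.toAlgebra
  letI : Algebra C k := C.res.toRingHom.toAlgebra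
  haveI : IsScalarTower C' C k := IsScalarTower.of_algebraMap_eq fun a => (DFunLike.congr_fun p.res_comp a).symm
  letI : Algebra C B := φ.hom.toAlgebra
  letI : Algebra C' B := (φ.hom.comp p.toAlgHom.toRingHom).toAlgebra
  haveI : IsScalarTower C' C B := IsScalarTower.of_algebraMap_eq fun _ => rfl
  letI : Algebra C' B₀ := ((algebraMap k B₀).comp C'.res.toRingHom).toAlgebra
  haveI : IsScalarTower C' k B₀ := IsScalarTower.of_algebraMap_eq fun _ => rfl
  letI : Algebra C B₀ := ((algebraMap k B₀).comp C.res.toRingHom).toAlgebra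
  haveI : IsScalarTower C k B₀ := IsScalarTower.of_algebraMap_eq fun _ => rfl
  letI : Algebra B B₀ := ρ.hom.toAlgebra
  haveI : IsScalarTower C B B₀ := IsScalarTower.of_algebraMap_eq fun c =>
    (congrArg (fun t : CommRingCat.of C ⟶ CommRingCat.of B₀ => t.hom c) hpo.w).symm
  haveI : IsScalarTower C' B B₀ := IsScalarTower.of_algebraMap_eq fun a => by
    show algebraMap k B₀ (C'.res a) = algebraMap B B₀ (algebraMap C B (algebraMap C' C a))
    rw [← IsScalarTower.algebraMap_apply C B B₀, IsScalarTower.algebraMap_apply C k B₀]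
    exact congrArg (algebraMap k B₀) (DFunLike.congr_fun p.res_comp a).symm
  let J : Ideal C' := RingHom.ker p.toAlgHom
  haveI : IsScalarTower C' k J := ⟨fun a c j => Subtype.ext (by
    rw [Algebra.smul_def a c, Submodule.coe_smul_of_tower, Submodule.coe_smul, Submodule.coe_smul_of_tower,
      Algebra.smul_def, smul_eq_mul, Algebra.smul_def]
    show algebraMap k C' (C'.res a * c) * (j : C') = a * (algebraMap k C' c * (j : C'))
    have h0 : (a - algebraMap k C' (C'.res a)) * (j : C') = 0 := by
      have := Ideal.mul_mem_mul (res_sub_mem a) j.2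
      rwa [hp.2, Submodule.mem_bot] at this
    rw [map_mul]
    linear_combination -(algebraMap k C' c) * h0)⟩
  haveI : Module.Flat C B := by
    have hf : Flat (Spec.map φ) := hφ ▸ inferInstance
    exact (HasRingHomProperty.Spec_iff (P := @Flat)).1 hf
  have hC : Function.Surjective (algebraMap C' C) := hp.1
  have hres : Function.Surjective (algebraMap C' k) := C'.res_surjective
  have hmax : RingHom.ker (algebraMap C' k) = IsLocalRing.maximalIdeal C' := by
    ext a
    exact (C'.mem_maximalIdeal_iff a).symm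
  have hm : IsNilpotent (RingHom.ker (algebraMap C' k)) := by
    rw [hmax, ← IsLocalRing.jacobson_eq_maximalIdeal ⊥ bot_ne_top]
    exact IsArtinianRing.isNilpotent_jacobson_bot
  have hJm : J ≤ RingHom.ker (algebraMap C' k) := hmax ▸ IsLocalRing.le_maximalIdeal (RingHom.ker_ne_top _)
  have hJnil : IsNilpotent J := by
    obtain ⟨n, hn⟩ := hm
    exact ⟨n, le_bot_iff.1 ((Ideal.pow_right_mono hJm n).trans hn.le)⟩
  obtain ⟨Y, hY⟩ := exists_ext J hC rfl hres hm hρs hρk P hT2
  haveI := flat_of_ext (k := k) J hC rfl hρs hρk hJm hres hJnil Y hY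
  let E := CommRingCat.of Y.E
  let η : CommRingCat.of C' ⟶ E := CommRingCat.ofHom (algebraMap C' Y.E)
  let q : E ⟶ B := CommRingCat.ofHom Y.proj.toRingHom
  have hq : IsPushout η (CommRingCat.ofHom p.toAlgHom.toRingHom) q φ :=
    isPushout_of_surjective η _ q φ (CommRingCat.hom_ext (RingHom.ext fun r => Y.proj.commutes r)) hp.1
      Y.isExtension.proj_surjective (ker_proj_eq (k := k) J Y hY hρs).le
  let g : 𝒳.total ⟶ Spec E := 𝒳.total.isoSpec.hom ≫ Spec.map q
  have hgpb : IsPullback g 𝒳.f (Spec.map η) (Art.specMap p) :=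
    IsPullback.of_iso (isPullback_SpecMap_of_isPushout _ _ _ _ hq) 𝒳.total.isoSpec.symm (Iso.refl _) (Iso.refl _)
      (Iso.refl _) (by simp [g]) (by simp [hφ]) (by simp) (by simp only [Iso.refl_hom, Category.comp_id, Category.id_comp])
  have hflat : Flat (Spec.map η) := by
    rw [HasRingHomProperty.Spec_iff (P := @Flat), CommRingCat.hom_ofHom, RingHom.flat_algebraMap_iff]
    infer_instance
  let 𝒴 : DefSch (Spec (CommRingCat.of B₀)) (str₀ k B₀) C' :=
    { total := Spec E
      f := Spec.map η
      flat := hflat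
      i := 𝒳.i ≫ g
      isPullback := by
        have := 𝒳.isPullback.paste_horiz hgpb
        rwa [Art.specRes_comp] at this }
  let u : (𝒴.baseChange p).Iso 𝒳 :=
    { iso := (IsPullback.of_hasPullback 𝒴.f (Art.specMap p)).isoIsPullback _ _ hgpb
      hom_f := IsPullback.isoIsPullback_hom_snd _ _ _ _
      i_hom := hgpb.hom_ext (by rw [Category.assoc, IsPullback.isoIsPullback_hom_fst, DefSch.baseChange_i_fst])
        (by rw [Category.assoc, IsPullback.isoIsPullback_hom_snd, 𝒳.i_f]; exact DefSch.baseChange_i_f 𝒴 p) }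
  exact ⟨⟨𝒴, u⟩⟩

end Groth.Agent.DefAff3
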