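import Groth.Agent.Lib.CotT3.ExalT1
import Groth.Prelude.Def_CotT
import Mathlib.RingTheory.Extension.Cotangent.Basic
import Mathlib.RingTheory.Extension.Generators

/-!
# Liftings of an algebra along a small surjection form a torsor under `T¹`

`A → k` an augmented ring with kernel `m`, `B` an `A`-algebra with special fibre `B₀`, `L` a `B₀`-module.
Extensions of `B` by `L` in which a given ideal `J` of `A` acts through a given map `ν` correspond, once one
of them is fixed, to `T¹(B₀/k, L)`.
-/

set_option autoImplicit false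
set_option backward.isDefEq.respectTransparency false

universe u

open TensorProduct

noncomputable section

namespace Groth.Agent.DefAff3

open _root_.CotT CotT3

variable {A : Type u} [CommRing A] {k : Type u} [Field k] [Algebra A k]
variable {B B₀ : Type u} [CommRing B] [CommRing B₀] [Algebra A B] [Algebra k B₀] [Algebra A B₀]
  [IsScalarTower A k B₀] [Algebra B B₀] [IsScalarTower A B B₀]
variable {L : Type u} [AddCommGroup L] [Module B L] [Module B₀ L] [IsScalarTower B B₀ L]

/-- Classes of extensions in which `J` acts through `ν`. -/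
def Cls (A B L : Type u) [CommRing A] [CommRing B] [Algebra A B] [AddCommGroup L] [Module B L]
    (J : Ideal A) (ν : J → L) : Type (u + 1) :=
  Quotient (Setoid.comap (Subtype.val :
    {X : Exal.Ext A B L // ∀ j : J, algebraMap A X.E j = X.incl (ν j)} → Exal.Ext A B L) (Exal.Ext.setoid A B L))

/-- A presentation using the variables of the canonical presentation of `B₀`. -/
def pres (val : B₀ → B) (hval : Function.Surjective (MvPolynomial.aeval (R := A) val)) :
    Algebra.Presentation A B B₀ (Algebra.Generators.ofSurjective val hval).ker where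
  __ := Algebra.Generators.ofSurjective val hval
  relation := Subtype.val
  span_range_relation_eq_ker := by
    refine le_antisymm (Ideal.span_le.mpr ?_) fun x hx => Ideal.subset_span ⟨⟨x, hx⟩, rfl⟩
    rintro _ ⟨r, rfl⟩
    exact r.2

section

variable {ι : Type u} {σ σ' : Type u} (P : Algebra.Presentation A B ι σ) (Q : Algebra.Presentation k B₀ ι σ')
  (F : P.toExtension.Hom Q.toExtension)

/-- Descent of maps on `K/K²` to `I/I²`. -/
theorem exists_descend (J : Ideal A)
    (hρ : Function.Surjective (algebraMap B B₀))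
    (hsur : Function.Surjective F.toAlgHom)
    (hmem : ∀ j : J, algebraMap A P.toExtension.Ring j ∈ P.toExtension.ker)
    (hq : Q.toExtension.ker ≤ P.toExtension.ker.map F.toAlgHom)
    (hflat : ∀ y : P.toExtension.Ring, y ∈ P.toExtension.ker → F.toAlgHom y = 0 →
      y ∈ (RingHom.ker (algebraMap A k)).map (algebraMap A P.toExtension.Ring) * P.toExtension.ker ⊔
        J.map (algebraMap A P.toExtension.Ring))
    (δ : P.toExtension.Cotangent →ₗ[B] L)
    (hδ : ∀ j : J, δ (Algebra.Extension.Cotangent.mk ⟨_, hmem j⟩) = 0) :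
    ∃ δ' : Q.toExtension.Cotangent →ₗ[B₀] L, δ = δ'.restrictScalars B ∘ₗ Algebra.Extension.Cotangent.map F := by
  classical
  let qc := Algebra.Extension.Cotangent.map F
  have hqc : Function.Surjective qc := by
    intro x
    obtain ⟨⟨y₀, hy₀⟩, rfl⟩ := Algebra.Extension.Cotangent.mk_surjective x
    obtain ⟨y, hy, hyy⟩ := (Ideal.mem_map_iff_of_surjective _ hsur).1 (hq hy₀)
    refine ⟨Algebra.Extension.Cotangent.mk ⟨y, hy⟩, ?_⟩
    rw [Algebra.Extension.Cotangent.map_mk]
    exact congrArg Algebra.Extension.Cotangent.mk (Subtype.ext hyy)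
  have hsmul : ∀ (c : P.toExtension.Ring) (v : P.toExtension.ker),
      δ (Algebra.Extension.Cotangent.mk (c • v)) =
        algebraMap P.toExtension.Ring B c • δ (Algebra.Extension.Cotangent.mk v) := by
    intro c v
    rw [map_smul, ← algebraMap_smul B c, map_smul]
  let S : Ideal P.toExtension.Ring :=
    { carrier := {v | ∃ hv : v ∈ P.toExtension.ker, δ (Algebra.Extension.Cotangent.mk ⟨v, hv⟩) = 0}
      zero_mem' := ⟨Submodule.zero_mem _, by
        rw [show (⟨0, Submodule.zero_mem _⟩ : P.toExtension.ker) = 0 from rfl, map_zero, map_zero]⟩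
      add_mem' := by
        rintro a b ⟨ha, ea⟩ ⟨hb, eb⟩
        refine ⟨Submodule.add_mem _ ha hb, ?_⟩
        rw [show (⟨a + b, Submodule.add_mem _ ha hb⟩ : P.toExtension.ker) = ⟨a, ha⟩ + ⟨b, hb⟩ from rfl,
          map_add, map_add, ea, eb, add_zero]
      smul_mem' := by
        rintro c a ⟨ha, ea⟩
        exact ⟨Ideal.mul_mem_left _ _ ha, (hsmul c ⟨a, ha⟩).trans (by rw [ea, smul_zero])⟩ }
  have hS2 : P.toExtension.ker ^ 2 ≤ S := fun y hy => by
    refine ⟨Ideal.pow_le_self two_ne_zero hy, ?_⟩
    rw [show Algebra.Extension.Cotangent.mk (⟨y, Ideal.pow_le_self two_ne_zero hy⟩ : P.toExtension.ker) = 0 from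
      Algebra.Extension.Cotangent.ext (by
        rw [Algebra.Extension.Cotangent.val_mk, Algebra.Extension.Cotangent.val_zero]
        exact (Ideal.toCotangent_eq_zero _ _).2 hy), map_zero]
  have hSf : (RingHom.ker (algebraMap A k)).map (algebraMap A P.toExtension.Ring) * P.toExtension.ker ⊔
      J.map (algebraMap A P.toExtension.Ring) ≤ S := by
    refine sup_le (Ideal.mul_le.2 fun a ha b hb => ?_)
      (Ideal.map_le_iff_le_comap.2 fun j hj => ⟨hmem ⟨j, hj⟩, hδ ⟨j, hj⟩⟩)
    refine ⟨Ideal.mul_mem_left _ _ hb, (hsmul a ⟨b, hb⟩).trans ?_⟩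
    have : algebraMap B B₀ (algebraMap P.toExtension.Ring B a) = 0 := by
      have hle : (RingHom.ker (algebraMap A k)).map (algebraMap A P.toExtension.Ring) ≤
          RingHom.ker ((algebraMap B B₀).comp (algebraMap P.toExtension.Ring B)) := by
        rw [Ideal.map_le_iff_le_comap]
        intro c hc
        rw [Ideal.mem_comap, RingHom.mem_ker, RingHom.comp_apply, ← IsScalarTower.algebraMap_apply A P.toExtension.Ring B,
          ← IsScalarTower.algebraMap_apply A B B₀, IsScalarTower.algebraMap_apply A k B₀, RingHom.mem_ker.1 hc, map_zero]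
      exact hle ha
    rw [← IsScalarTower.algebraMap_smul B₀ (algebraMap P.toExtension.Ring B a), this, zero_smul]
  have hk : ∀ z, qc z = 0 → δ z = 0 := by
    intro z hz
    obtain ⟨⟨y, hy⟩, rfl⟩ := Algebra.Extension.Cotangent.mk_surjective z
    rw [Algebra.Extension.Cotangent.map_mk] at hz
    have hz2 : F.toAlgHom y ∈ Q.toExtension.ker ^ 2 := by
      have := congrArg Algebra.Extension.Cotangent.val hz
      rw [Algebra.Extension.Cotangent.val_mk, Algebra.Extension.Cotangent.val_zero] at this
      exact (Ideal.toCotangent_eq_zero _ _).1 this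
    obtain ⟨y₁, hy₁, he⟩ := (Ideal.mem_map_iff_of_surjective _ hsur).1
      ((Ideal.map_pow _ _ _).ge (Ideal.pow_right_mono hq 2 hz2))
    have h2 := hflat (y - y₁) (sub_mem hy (Ideal.pow_le_self two_ne_zero hy₁)) (by rw [map_sub, he, sub_self])
    obtain ⟨_, h0⟩ := show y ∈ S by
      rw [← sub_add_cancel y y₁]
      exact add_mem (hSf h2) (hS2 hy₁)
    exact h0
  let g : Q.toExtension.Cotangent → L := fun x => δ (Function.surjInv hqc x)
  have hg : ∀ z, g (qc z) = δ z := fun z => by
    rw [← sub_eq_zero, ← map_sub]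
    exact hk _ (by rw [map_sub, Function.surjInv_eq hqc, sub_self])
  refine ⟨{ toFun := g, map_add' := fun x y => ?_, map_smul' := fun c x => ?_ }, LinearMap.ext fun z => (hg z).symm⟩
  · obtain ⟨x, rfl⟩ := hqc x
    obtain ⟨y, rfl⟩ := hqc y
    rw [← map_add, hg, hg, hg, map_add]
  · obtain ⟨x, rfl⟩ := hqc x
    obtain ⟨b, rfl⟩ := hρ c
    rw [algebraMap_smul, ← map_smul, hg, hg, map_smul, RingHom.id_apply, algebraMap_smul]

theorem descend_kills (J : Ideal A) (hJm : J ≤ RingHom.ker (algebraMap A k))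
    (hmem : ∀ j : J, algebraMap A P.toExtension.Ring j ∈ P.toExtension.ker)
    (δ' : Q.toExtension.Cotangent →ₗ[B₀] L) (j : J) :
    δ' (Algebra.Extension.Cotangent.map F (Algebra.Extension.Cotangent.mk ⟨_, hmem j⟩)) = 0 := by
  rw [Algebra.Extension.Cotangent.map_mk]
  refine (congrArg (fun v => δ' (Algebra.Extension.Cotangent.mk v)) (Subtype.ext ?_)).trans
    (show δ' (Algebra.Extension.Cotangent.mk 0) = 0 by rw [map_zero, map_zero])
  show F.toAlgHom (algebraMap A P.toExtension.Ring (j : A)) = 0
  rw [AlgHom.commutes, IsScalarTower.algebraMap_apply A k Q.toExtension.Ring, RingHom.mem_ker.1 (hJm j.2), map_zero]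

theorem equiv_of_presentation (J : Ideal A) (ν : J → L)
    (hρ : Function.Surjective (algebraMap B B₀))
    (hsur : Function.Surjective F.toAlgHom)
    (hJm : J ≤ RingHom.ker (algebraMap A k))
    (hJB : J.map (algebraMap A B) = ⊥)
    (hbasis : ∀ i, Algebra.Extension.CotangentSpace.map F (P.cotangentSpaceBasis i) = Q.cotangentSpaceBasis i)
    (hq : Q.toExtension.ker ≤ P.toExtension.ker.map F.toAlgHom)
    (hflat : ∀ y : P.toExtension.Ring, y ∈ P.toExtension.ker → F.toAlgHom y = 0 →
      y ∈ (RingHom.ker (algebraMap A k)).map (algebraMap A P.toExtension.Ring) * P.toExtension.ker ⊔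
        J.map (algebraMap A P.toExtension.Ring))
    (X₀ : Exal.Ext A B L) (hX₀ : ∀ j : J, algebraMap A X₀.E j = X₀.incl (ν j)) :
    Nonempty (Cls A B L J ν ≃ T1 Q L) := by
  classical
  let qc := Algebra.Extension.Cotangent.map F
  let qd := Algebra.Extension.CotangentSpace.map F
  have hcc : ∀ x, qd (P.toExtension.cotangentComplex x) = Q.toExtension.cotangentComplex (qc x) := fun x =>
    Algebra.Extension.CotangentSpace.map_cotangentComplex F x
  have hmem : ∀ j : J, algebraMap A P.toExtension.Ring j ∈ P.toExtension.ker := fun j => by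
    rw [RingHom.mem_ker, ← IsScalarTower.algebraMap_apply]
    exact (Submodule.mem_bot B).1 (hJB.le (Ideal.mem_map_of_mem _ j.2))
  obtain ⟨h₀, φ₀, hh₀⟩ := exists_isClassifier P X₀
  have hφν : ∀ (X : Exal.Ext A B L) (h : P.toExtension.Ring →+* X.E) (φ : P.toExtension.Cotangent →ₗ[B] L),
      IsClassifier P X h φ → ∀ j : J, (algebraMap A X.E j = X.incl (ν j) ↔
        φ (Algebra.Extension.Cotangent.mk ⟨_, hmem j⟩) = ν j) := by
    intro X h φ hh j
    have e1 : algebraMap A X.E (j : A) = h (algebraMap A P.toExtension.Ring (j : A)) := (hh.1 (j : A)).symm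
    rw [e1, hh.2.2 ⟨_, hmem j⟩]
    exact X.isExtension.incl_injective.eq_iff
  let φ : (Q.toExtension.Cotangent →ₗ[B₀] L) → (P.toExtension.Cotangent →ₗ[B] L) :=
    fun δ' => φ₀ + δ'.restrictScalars B ∘ₗ qc
  choose X hX hXc using fun δ' => exists_classified_ext P (φ δ')
  let pt : (Q.toExtension.Cotangent →ₗ[B₀] L) → Cls A B L J ν := fun δ' =>
    Quotient.mk _ ⟨X δ', fun j => (hφν _ _ _ (hXc δ') j).2 (by
      show φ₀ _ + δ' (qc _) = ν j
      rw [descend_kills P Q F J hJm hmem δ' j, add_zero]
      exact (hφν _ _ _ hh₀ j).1 (hX₀ j))⟩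
  have hqc : Function.Surjective qc := by
    intro x
    obtain ⟨⟨y₀, hy₀⟩, rfl⟩ := Algebra.Extension.Cotangent.mk_surjective x
    obtain ⟨y, hy, hyy⟩ := (Ideal.mem_map_iff_of_surjective _ hsur).1 (hq hy₀)
    refine ⟨Algebra.Extension.Cotangent.mk ⟨y, hy⟩, ?_⟩
    rw [Algebra.Extension.Cotangent.map_mk]
    exact congrArg Algebra.Extension.Cotangent.mk (Subtype.ext hyy)
  have hcoh : ∀ δ₁ δ₂, pt δ₁ = pt δ₂ ↔ homToT1 Q L δ₁ = homToT1 Q L δ₂ := by
    intro δ₁ δ₂
    constructor
    · intro h
      obtain ⟨e⟩ := Quotient.exact h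
      have := homToT1_eq_of_isClassifier P (isClassifier_of_equiv P e (hXc δ₁)) (hXc δ₂)
      obtain ⟨ψ, hψ⟩ := (homToT1_eq_iff P _ _).1 this
      let ψ' : L0 Q →ₗ[B₀] L := Q.cotangentSpaceBasis.constr B₀ fun i => ψ (P.cotangentSpaceBasis i)
      have hψ' : ψ'.restrictScalars B ∘ₗ qd = ψ := P.cotangentSpaceBasis.ext fun i => by
        rw [LinearMap.comp_apply, LinearMap.restrictScalars_apply, hbasis, Module.Basis.constr_basis]
      refine (homToT1_eq_iff Q _ _).2 ⟨ψ', LinearMap.ext fun x => ?_⟩
      obtain ⟨z, rfl⟩ := hqc x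
      have h1 := LinearMap.congr_fun hψ z
      simp only [φ, LinearMap.add_apply, LinearMap.comp_apply, LinearMap.restrictScalars_apply] at h1 ⊢
      rw [← hψ', LinearMap.comp_apply, LinearMap.restrictScalars_apply, hcc, add_assoc] at h1
      exact add_left_cancel h1
    · intro h
      obtain ⟨ψ, hψ⟩ := (homToT1_eq_iff Q _ _).1 h
      obtain ⟨h', hh', -⟩ := exists_isClassifier_add P (hXc δ₁) (ψ.restrictScalars B ∘ₗ qd)
      have hh'' : IsClassifier P (X δ₁) h' (φ δ₂) := by
        convert hh' using 1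
        refine LinearMap.ext fun z => ?_
        simp only [φ, LinearMap.add_apply, LinearMap.comp_apply, LinearMap.restrictScalars_apply, hψ, hcc]
        abel
      exact Quotient.sound (nonempty_equiv_of_classifier P hh'' (hXc δ₂))
  have hsurj : Function.Surjective (homToT1 Q L) := homToT1_surjective Q L
  refine ⟨(Equiv.ofBijective (fun t => pt (Function.surjInv hsurj t)) ⟨fun t₁ t₂ h => ?_, fun c => ?_⟩).symm⟩
  · have := (hcoh _ _).1 h
    rwa [Function.surjInv_eq hsurj, Function.surjInv_eq hsurj] at this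
  · induction c using Quotient.inductionOn with
    | h Y =>
      obtain ⟨Y, hY⟩ := Y
      obtain ⟨h, φY, hh⟩ := exists_isClassifier P Y
      obtain ⟨δ', hδ'⟩ := exists_descend P Q F J hρ hsur hmem hq hflat (φY - φ₀) fun j => by
        rw [LinearMap.sub_apply, (hφν _ _ _ hh j).1 (hY j), (hφν _ _ _ hh₀ j).1 (hX₀ j), sub_self]
      refine ⟨homToT1 Q L δ', ((hcoh _ δ').2 (Function.surjInv_eq hsurj _)).trans ?_⟩
      have hh' : IsClassifier P Y h (φ δ') := by
        rw [show φ δ' = φY by show φ₀ + _ = _; rw [← hδ', add_sub_cancel]]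
        exact hh
      exact Quotient.sound (nonempty_equiv_of_classifier P (hXc δ') hh')

end

/-- The torsor statement with the choice-free presentation of `B₀`. -/
theorem classes_equiv (J : Ideal A) (ν : J → L) (hres : Function.Surjective (algebraMap A k))
    (hJm : J ≤ RingHom.ker (algebraMap A k)) (hJB : J.map (algebraMap A B) = ⊥)
    (val : B₀ → B) (hval : Function.Surjective (MvPolynomial.aeval (R := A) val))
    (hsec : ∀ b, algebraMap B B₀ (val b) = b)
    (hq : ∀ y₀ : MvPolynomial B₀ k, MvPolynomial.aeval (id : B₀ → B₀) y₀ = 0 →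
      ∃ y : MvPolynomial B₀ A, MvPolynomial.aeval val y = 0 ∧ MvPolynomial.map (algebraMap A k) y = y₀)
    (hflat : ∀ y : MvPolynomial B₀ A, MvPolynomial.aeval val y = 0 → MvPolynomial.map (algebraMap A k) y = 0 →
      y ∈ (RingHom.ker (algebraMap A k)).map (algebraMap A (MvPolynomial B₀ A)) *
          RingHom.ker (MvPolynomial.aeval (R := A) val).toRingHom ⊔ J.map (algebraMap A (MvPolynomial B₀ A)))
    (X₀ : Exal.Ext A B L) (hX₀ : ∀ j : J, algebraMap A X₀.E j = X₀.incl (ν j)) :
    Nonempty (Cls A B L J ν ≃ T1 (canon k B₀) L) := by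
  let P := pres val hval
  let Q := canon k B₀
  let f : P.toGenerators.Hom Q.toGenerators :=
    { val := fun i => MvPolynomial.X i
      aeval_val := fun i => (MvPolynomial.aeval_X _ i).trans (hsec i).symm }
  have hF0 : (f.toAlgHom.toRingHom : MvPolynomial B₀ A →+* MvPolynomial B₀ k) = MvPolynomial.map (algebraMap A k) := by
    refine MvPolynomial.ringHom_ext (fun a => ?_) (fun i => ?_)
    · rw [MvPolynomial.map_C]
      exact (MvPolynomial.aeval_C (R := A) f.val a).trans (IsScalarTower.algebraMap_apply A k (MvPolynomial B₀ k) a)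
    · rw [MvPolynomial.map_X]
      exact MvPolynomial.aeval_X f.val i
  have hF : ∀ y : MvPolynomial B₀ A, f.toExtensionHom.toAlgHom y = MvPolynomial.map (algebraMap A k) y :=
    fun y => RingHom.congr_fun hF0 y
  have hkerP : P.toExtension.ker = RingHom.ker (MvPolynomial.aeval (R := A) val).toRingHom :=
    Algebra.Generators.ker_eq_ker_aeval_val (P := P.toGenerators)
  have hkerQ : Q.toExtension.ker = RingHom.ker (MvPolynomial.aeval (R := k) (id : B₀ → B₀)) :=
    Algebra.Generators.ker_eq_ker_aeval_val (P := Q.toGenerators)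
  refine equiv_of_presentation P Q f.toExtensionHom J ν (fun b => ⟨val b, hsec b⟩) (fun y₀ => ?_) hJm hJB
    (fun i => ?_) (fun w hw => ?_) (fun y hy hy0 => ?_) X₀ hX₀
  · obtain ⟨y, hy⟩ := MvPolynomial.map_surjective (algebraMap A k) hres y₀
    exact ⟨y, (hF y).trans hy⟩
  · rw [Algebra.Generators.cotangentSpaceBasis_apply, Algebra.Generators.cotangentSpaceBasis_apply]
    erw [Algebra.Extension.CotangentSpace.map_tmul]
    rw [map_one]
    erw [hF, MvPolynomial.map_X]
    rfl
  · obtain ⟨y, hy, hyy⟩ := hq w (RingHom.mem_ker.1 (hkerQ.le hw))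
    rw [← hyy, ← hF]
    exact Ideal.mem_map_of_mem _ (hkerP.ge (RingHom.mem_ker.2 hy))
  · have h := hflat y (RingHom.mem_ker.1 (hkerP.le hy)) ((hF y).symm.trans hy0)
    rw [← hkerP] at h
    exact h

end Groth.Agent.DefAff3
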